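import Mathlib

/-!
Orbit counts for a permutation of prime order, and the fixed point ratio of an element of prime order whose
conjugates generate a solvable group acting transitively and non-trivially: it is at most `1 / p`.
-/

set_option autoImplicit false

namespace Cfsg.Lib.Solv.FixedHalf

open scoped commutatorElement

/-- Orbit representatives for a permutation of prime order, with their weighted count. -/
theorem exists_orbit_reps {X : Type*} [Fintype X] [DecidableEq X] {p : ℕ} (hp : p.Prime) (σ : Equiv.Perm X)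
    (hσ : σ ^ p = 1) (d : X → ℕ) (hd : ∀ x, d (σ x) = d x) :
    ∃ R : Finset X, (∀ x, ∃ y ∈ R, ∃ k : ℕ, (σ ^ k) y = x) ∧
      p * ∑ x ∈ R, d x = ∑ x, d x + (p - 1) * ∑ x ∈ Finset.univ.filter (fun x => σ x = x), d x := by
  classical
  have hdk : ∀ (k : ℕ) x, d ((σ ^ k) x) = d x := by
    intro k
    induction k with
    | zero => simp
    | succ k ih => intro x; rw [pow_succ', Equiv.Perm.mul_apply, hd, ih]
  let orb : X → Finset X := fun x => (Finset.range p).image fun k => (σ ^ k) x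
  have hmem : ∀ x (k : ℕ), (σ ^ k) x ∈ orb x := fun x k => by
    refine Finset.mem_image.2 ⟨k % p, Finset.mem_range.2 (Nat.mod_lt _ hp.pos), ?_⟩
    rw [← pow_eq_pow_mod k hσ]
  have hself : ∀ x, x ∈ orb x := fun x => by simpa using hmem x 0
  have hsub : ∀ x, ∀ y ∈ orb x, orb y ⊆ orb x ∧ x ∈ orb y := by
    intro x y hy
    obtain ⟨k, hk, rfl⟩ := Finset.mem_image.1 hy
    refine ⟨fun z hz => ?_, ?_⟩
    · obtain ⟨m, -, rfl⟩ := Finset.mem_image.1 hz
      rw [← Equiv.Perm.mul_apply, ← pow_add]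
      exact hmem _ _
    · have h1 := hmem ((σ ^ k) x) (p - k)
      rwa [← Equiv.Perm.mul_apply, ← pow_add, Nat.sub_add_cancel (Finset.mem_range.1 hk).le, hσ] at h1
  have heq : ∀ x, ∀ y ∈ orb x, orb y = orb x := fun x y hy =>
    Finset.Subset.antisymm (hsub x y hy).1 (hsub y x (hsub x y hy).2).1
  have hcard : ∀ x, σ x ≠ x → (orb x).card = p := by
    intro x hx
    rw [Finset.card_image_of_injOn, Finset.card_range]
    have key : ∀ i j : ℕ, i < j → j < p → (σ ^ i) x ≠ (σ ^ j) x := by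
      intro i j hlt hj hij
      refine hx ?_
      have h1 : (σ ^ (j - i)) x = x := by
        apply (σ ^ i).injective
        rw [← Equiv.Perm.mul_apply, ← pow_add, Nat.add_sub_cancel' hlt.le]
        exact hij.symm
      obtain ⟨k, -, hk⟩ := Nat.exists_mul_mod_eq_one_of_coprime
        (show Nat.Coprime (j - i) p from ((hp.coprime_iff_not_dvd).2
          (fun h => absurd (Nat.le_of_dvd (by omega) h) (by omega))).symm) hp.one_lt
      have h2 : ∀ m : ℕ, ((σ ^ (j - i)) ^ m) x = x := by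
        intro m
        induction m with
        | zero => simp
        | succ m ih => rw [pow_succ, Equiv.Perm.mul_apply, h1, ih]
      have h3 := h2 k
      rwa [← pow_mul, pow_eq_pow_mod _ hσ, hk, pow_one] at h3
    intro i hi j hj hij
    simp only [Finset.coe_range, Set.mem_Iio] at hi hj
    rcases lt_trichotomy i j with h | h | h
    · exact absurd hij (key i j h hj)
    · exact h
    · exact absurd hij.symm (key j i h hi)
  have hfix : ∀ x, σ x = x → orb x = {x} := by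
    intro x hx
    refine Finset.eq_singleton_iff_unique_mem.2 ⟨hself x, fun y hy => ?_⟩
    obtain ⟨k, -, rfl⟩ := Finset.mem_image.1 hy
    induction k with
    | zero => simp
    | succ k ih => rw [pow_succ, Equiv.Perm.mul_apply, hx, ih (hmem x k)]
  let O : Finset (Finset X) := Finset.univ.image orb
  have hO : ∀ o ∈ O, ∃ x, x ∈ o ∧ orb x = o := fun o ho => by
    obtain ⟨x, -, rfl⟩ := Finset.mem_image.1 ho
    exact ⟨x, hself x, rfl⟩
  choose rep hrep using hO
  refine ⟨O.attach.image fun o => rep o.1 o.2, fun x => ?_, ?_⟩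
  · have ho : orb x ∈ O := Finset.mem_image_of_mem _ (Finset.mem_univ x)
    refine ⟨rep _ ho, Finset.mem_image.2 ⟨⟨_, ho⟩, Finset.mem_attach _ _, rfl⟩, ?_⟩
    have h1 : x ∈ orb (rep _ ho) := by rw [(hrep _ ho).2]; exact hself x
    obtain ⟨k, -, hk⟩ := Finset.mem_image.1 h1
    exact ⟨k, hk⟩
  rw [Finset.sum_image (fun a _ b _ h => Subtype.ext (by rw [← (hrep a.1 a.2).2, ← (hrep b.1 b.2).2, show rep a.1 a.2 = rep b.1 b.2 from h])),
    Finset.sum_filter, Finset.mul_sum, Finset.mul_sum, ← Finset.sum_add_distrib,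
    ← Finset.sum_fiberwise_of_maps_to (g := orb) (t := O) (fun x _ => Finset.mem_image_of_mem _ (Finset.mem_univ x)),
    ← Finset.sum_attach O (fun o => ∑ x ∈ Finset.univ.filter (fun x => orb x = o), _)]
  refine Finset.sum_congr rfl fun o _ => ?_
  obtain ⟨hx, hox⟩ := hrep o.1 o.2
  have hfib : Finset.univ.filter (fun y => orb y = o.1) = orb (rep o.1 o.2) := by
    ext y
    simp only [Finset.mem_filter, Finset.mem_univ, true_and]
    exact ⟨fun h => by rw [hox, ← h]; exact hself y, fun h => by rw [heq _ y h, hox]⟩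
  rw [hfib]
  by_cases hf : σ (rep o.1 o.2) = rep o.1 o.2
  · rw [hfix _ hf, Finset.sum_singleton, if_pos hf]
    obtain ⟨m, hm⟩ : ∃ m, p = m + 1 := ⟨p - 1, by have := hp.one_lt; omega⟩
    rw [hm, Nat.add_sub_cancel]; ring
  · rw [Finset.sum_eq_card_nsmul (b := d (rep o.1 o.2)) fun y hy => ?_, hcard _ hf, smul_eq_mul]
    obtain ⟨k, -, rfl⟩ := Finset.mem_image.1 hy
    have hnf : σ ((σ ^ k) (rep o.1 o.2)) ≠ (σ ^ k) (rep o.1 o.2) := fun h => hf ((σ ^ k).injective (by
      rwa [← Equiv.Perm.mul_apply, ← pow_succ', pow_succ, Equiv.Perm.mul_apply] at h))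
    rw [if_neg hnf, mul_zero, add_zero, hdk]

/-- Unweighted orbit count. -/
theorem exists_orbit_reps_card {X : Type*} [Fintype X] [DecidableEq X] {p : ℕ} (hp : p.Prime) (σ : Equiv.Perm X)
    (hσ : σ ^ p = 1) :
    ∃ R : Finset X, (∀ x, ∃ y ∈ R, ∃ k : ℕ, (σ ^ k) y = x) ∧
      p * R.card = Nat.card X + (p - 1) * Nat.card {x : X // σ x = x} := by
  obtain ⟨R, h1, h2⟩ := exists_orbit_reps hp σ hσ (fun _ => 1) (fun _ => rfl)
  refine ⟨R, h1, ?_⟩
  simpa [Nat.card_eq_fintype_card, Fintype.card_subtype] using h2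

section Group

variable {G : Type*} [Group G] [Finite G]

/-- If only the identity of a nontrivial group is fixed by an automorphism of prime order, the group is large. -/
theorem le_card_of_fixed {M : Type*} [Group M] [Finite M] {p : ℕ} (hp : p.Prime) (σ : Equiv.Perm M) (hσ : σ ^ p = 1)
    (hfix : ∀ x, σ x = x ↔ x = 1) (hM : Nontrivial M) : p ≤ Nat.card M := by
  classical
  haveI := Fintype.ofFinite M
  obtain ⟨R, hR, hc⟩ := exists_orbit_reps_card hp σ hσ
  have h1 : Nat.card {x : M // σ x = x} = 1 := by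
    rw [Nat.card_congr (Equiv.subtypeEquivRight hfix)]
    simp
  have h2 : 1 < R.card := by
    obtain ⟨a, ha⟩ := exists_ne (1 : M)
    obtain ⟨y, hy, k, hk⟩ := hR a
    obtain ⟨z, hz, l, hl⟩ := hR 1
    have e1 : ∀ l : ℕ, (σ ^ l) 1 = 1 := by
      intro l
      induction l with
      | zero => simp
      | succ l ih => rw [pow_succ, Equiv.Perm.mul_apply, (hfix 1).2 rfl, ih]
    refine Finset.one_lt_card.2 ⟨y, hy, z, hz, fun h => ha ?_⟩
    subst h
    have hy1 : y = 1 := (σ ^ l).injective (hl.trans (e1 l).symm)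
    rw [← hk, hy1, e1]
  rw [h1] at hc
  have h3 := Nat.mul_le_mul_left p h2
  have := hp.one_lt
  omega

/-- In a solvable group generated by the conjugates of an element of order `p`, that element fixes at most a
`1 / p`-th of the points of a non-trivial transitive action. -/
theorem card_fixed_cosets_mul_le [Group.IsSolvable G] {p : ℕ} (hp : p.Prime) {g : G} (hg : g ^ p = 1)
    (hgen : Subgroup.normalClosure {g} = ⊤) {U : Subgroup G} (hU : IsCoatom U) :
    p * Nat.card {x : G ⧸ U // g • x = x} ≤ U.index := by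
  classical
  by_cases h0 : ∃ x : G ⧸ U, g • x = x
  swap
  · rw [Nat.card_eq_zero.2 (Or.inl ⟨fun x => h0 ⟨x.1, x.2⟩⟩), mul_zero]
    exact Nat.zero_le _
  -- a minimal normal subgroup outside `U`
  obtain ⟨M, ⟨hMn, hMU⟩, hmin⟩ := wellFounded_lt.has_min {M : Subgroup G | M.Normal ∧ ¬ M ≤ U}
    ⟨⊤, ⟨inferInstance, fun h => hU.1 (top_le_iff.1 h)⟩⟩
  replace hmin : ∀ M' : Subgroup G, M'.Normal → M' < M → M' ≤ U := fun M' h1 h2 => by
    by_contra h3
    exact hmin M' ⟨h1, h3⟩ h2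
  have hsup : U ⊔ M = ⊤ := hU.2 _ (lt_of_le_of_ne le_sup_left fun h => hMU (h ▸ le_sup_right))
  have hMbot : M ≠ ⊥ := fun h => hMU (h ▸ bot_le)
  have hder : ⁅M, M⁆ ≤ U := hmin _ inferInstance (Group.IsSolvable.commutator_lt_of_ne_bot hMbot)
  obtain ⟨L, hL⟩ : ∃ L, L = M ⊓ U := ⟨_, rfl⟩
  haveI hLn : L.Normal := by
    rw [← Subgroup.normalizer_eq_top_iff, eq_top_iff, ← hsup, sup_le_iff]
    refine ⟨fun u hu => ?_, fun m hm => ?_⟩
    · rw [Subgroup.mem_normalizer_iff, hL]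
      intro x
      simp only [Subgroup.mem_inf]
      refine and_congr ⟨fun h => hMn.conj_mem x h u, fun h => ?_⟩ ⟨fun h => mul_mem (mul_mem hu h) (inv_mem hu), fun h => ?_⟩
      · simpa [mul_assoc] using hMn.conj_mem _ h u⁻¹
      · simpa [mul_assoc] using mul_mem (mul_mem (inv_mem hu) h) hu
    · have key : ∀ m ∈ M, ∀ x ∈ L, m * x * m⁻¹ ∈ L := fun m hm x hx => by
        rw [hL, Subgroup.mem_inf] at hx ⊢
        refine ⟨mul_mem (mul_mem hm hx.1) (inv_mem hm), ?_⟩
        rw [show m * x * m⁻¹ = ⁅m, x⁆ * x by rw [commutatorElement_def]; group]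
        exact mul_mem (hder (Subgroup.commutator_mem_commutator hm hx.1)) hx.2
      rw [Subgroup.mem_normalizer_iff]
      exact fun x => ⟨key m hm x, fun h => by simpa [mul_assoc] using key m⁻¹ (inv_mem hm) _ h⟩
  have hLM : L ≤ M := hL ▸ inf_le_left
  have hLU : L ≤ U := hL ▸ inf_le_right
  obtain ⟨π, hπ⟩ : ∃ π : G →* G ⧸ L, π = QuotientGroup.mk' L := ⟨_, rfl⟩
  have hπ1 : ∀ a, π a = 1 ↔ a ∈ L := fun a => by rw [hπ]; exact QuotientGroup.eq_one_iff a
  have hcm : ∀ a ∈ M, ∀ b ∈ M, π a * π b = π b * π a := fun a ha b hb => by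
    rw [← mul_inv_eq_one, show π a * π b * (π b * π a)⁻¹ = π ⁅a, b⁆ by simp [commutatorElement_def, mul_assoc], hπ1, hL]
    exact ⟨(Subgroup.commutator_le_left M M) (Subgroup.commutator_mem_commutator ha hb),
      hder (Subgroup.commutator_mem_commutator ha hb)⟩
  -- `M / L` has prime exponent
  obtain ⟨r, hr, hrM⟩ : ∃ r, Nat.Prime r ∧ ∀ m ∈ M, π m ^ r = 1 := by
    obtain ⟨m₀, hm₀, hm₀L⟩ := Set.not_subset.1 (fun h : (M : Set G) ⊆ L => hMU (le_trans h hLU))
    obtain ⟨r, hr, hdvd⟩ := Nat.exists_prime_and_dvd (show orderOf (π m₀) ≠ 1 by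
      rw [Ne, orderOf_eq_one_iff, hπ1]; exact hm₀L)
    refine ⟨r, hr, fun m hm => ?_⟩
    obtain ⟨S, hS⟩ : ∃ S : Subgroup G, ∀ x, x ∈ S ↔ x ∈ M ∧ π x ^ r = 1 :=
      ⟨{ carrier := {x | x ∈ M ∧ π x ^ r = 1}
         one_mem' := ⟨one_mem M, by simp⟩
         mul_mem' := fun {a b} ha hb => ⟨mul_mem ha.1 hb.1, by
           rw [map_mul, (show Commute (π a) (π b) from hcm a ha.1 b hb.1).mul_pow, ha.2, hb.2, one_mul]⟩
         inv_mem' := fun {a} ha => ⟨inv_mem ha.1, by rw [map_inv, inv_pow, ha.2, inv_one]⟩ }, fun x => Iff.rfl⟩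
    have hSn : S.Normal := ⟨fun x hx y => by
      rw [hS] at hx ⊢
      refine ⟨hMn.conj_mem x hx.1 y, ?_⟩
      rw [map_mul, map_mul, map_inv, conj_pow, hx.2, mul_one, mul_inv_cancel]⟩
    rcases (show S ≤ M from fun x hx => ((hS x).1 hx).1).eq_or_lt with h | h
    · exact ((hS m).1 (h ▸ hm)).2
    · exfalso
      obtain ⟨k, hk⟩ := hdvd
      have hk0 : 0 < k := Nat.pos_of_ne_zero fun h => by
        have := orderOf_pos (π m₀)
        rw [hk, h, mul_zero] at this; omega
      have hx : m₀ ^ k ∈ S := (hS _).2 ⟨pow_mem hm₀ k, by rw [map_pow, ← pow_mul, mul_comm, ← hk, pow_orderOf_eq_one]⟩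
      have hxL : π (m₀ ^ k) = 1 := (hπ1 _).2 (hL ▸ ⟨pow_mem hm₀ k, hmin S hSn h hx⟩)
      rw [map_pow] at hxL
      have := Nat.le_of_dvd hk0 (orderOf_dvd_of_pow_eq_one hxL)
      rw [hk] at this
      have := hr.two_le
      nlinarith
  -- move a fixed coset to the base point
  obtain ⟨x₀, hx₀⟩ := h0
  induction x₀ using QuotientGroup.induction_on with
  | _ a =>
  obtain ⟨g', hg'⟩ : ∃ g', g' = a⁻¹ * g * a := ⟨_, rfl⟩
  have hg'U : g' ∈ U := by
    have h1 : a⁻¹ * (g * a) ∈ U := QuotientGroup.eq.1 hx₀.symm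
    rwa [hg', mul_assoc]
  have hg'p : π g' ^ p = 1 := by
    rw [← map_pow, hg']
    simpa [hg] using congrArg π (conj_pow (i := p) (a := a⁻¹) (b := g))
  obtain ⟨Y, hY⟩ : ∃ Y, Y = M.map π := ⟨_, rfl⟩
  have hY' : ∀ y : Y, ∃ m ∈ M, π m = y.1 := fun y => by
    obtain ⟨m, hm, e⟩ : y.1 ∈ M.map π := by rw [← hY]; exact y.2
    exact ⟨m, hm, e⟩
  have hYc : ∀ x y : Y, x * y = y * x := fun x y => Subtype.ext (by
    obtain ⟨m, hm, hm'⟩ := hY' x
    obtain ⟨m', hm'', hm'''⟩ := hY' y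
    rw [Subgroup.coe_mul, Subgroup.coe_mul, ← hm', ← hm''']
    exact hcm m hm m' hm'')
  have hYconj : ∀ y ∈ Y, π g' * y * (π g')⁻¹ ∈ Y := fun y hy => by
    obtain ⟨m, hm, rfl⟩ := hY ▸ hy
    rw [hY]
    exact ⟨g' * m * g'⁻¹, hMn.conj_mem m hm g', by simp⟩
  let φ : Y →* Y :=
    { toFun := fun y => ⟨π g' * y.1 * (π g')⁻¹, hYconj _ y.2⟩ * y⁻¹
      map_one' := by
        ext
        simp
      map_mul' := fun y z => by
        rw [mul_inv_rev]
        rw [show (⟨π g' * (y * z).1 * (π g')⁻¹, hYconj _ (y * z).2⟩ : Y) =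
          ⟨π g' * y.1 * (π g')⁻¹, hYconj _ y.2⟩ * ⟨π g' * z.1 * (π g')⁻¹, hYconj _ z.2⟩ from
            Subtype.ext (by simp [mul_assoc])]
        rw [mul_assoc, ← mul_assoc (⟨π g' * z.1 * (π g')⁻¹, _⟩ : Y), hYc _ y⁻¹]
        simp only [mul_assoc] }
  have hker : ∀ y : Y, φ y = 1 ↔ π g' * y.1 * (π g')⁻¹ = y.1 := fun y => by
    rw [show φ y = ⟨π g' * y.1 * (π g')⁻¹, hYconj _ y.2⟩ * y⁻¹ from rfl, mul_inv_eq_one, Subtype.ext_iff]
  -- counting
  let Ψ : ↥Y → G ⧸ U := fun y =>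
    ((Classical.choose (hY' y) : G) : G ⧸ U)
  have hΨ : ∀ (y : ↥Y) (m : G), m ∈ M → π m = y.1 → Ψ y = ((m : G) : G ⧸ U) := fun y m hm e => by
    obtain ⟨h1, h2⟩ := Classical.choose_spec (hY' y)
    refine QuotientGroup.eq.2 (hLU ((hπ1 _).1 ?_))
    rw [map_mul, map_inv, h2, e, inv_mul_cancel]
  have hΨb : Function.Bijective Ψ := by
    refine ⟨fun y z h => ?_, fun x => ?_⟩
    · obtain ⟨m, hm, e⟩ := hY' y
      obtain ⟨m', hm', e'⟩ := hY' z
      rw [hΨ y m hm e, hΨ z m' hm' e', QuotientGroup.eq] at h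
      refine Subtype.ext ?_
      rw [← e, ← e', ← inv_mul_eq_one, ← map_inv, ← map_mul, hπ1, hL]
      exact Subgroup.mem_inf.2 ⟨mul_mem (inv_mem hm) hm', h⟩
    · induction x using QuotientGroup.induction_on with
      | _ b =>
      have hb : b ∈ M ⊔ U := by rw [sup_comm, hsup]; exact Subgroup.mem_top b
      rw [Subgroup.mem_sup_of_normal_left] at hb
      obtain ⟨m, hm, u, hu, rfl⟩ := hb
      refine ⟨⟨π m, hY.symm ▸ ⟨m, hm, rfl⟩⟩, ?_⟩
      rw [hΨ _ m hm rfl]
      exact QuotientGroup.eq.2 (by simpa [← mul_assoc] using hu)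
  have hΨf : ∀ y : ↥Y, φ y = 1 ↔ g' • Ψ y = Ψ y := fun y => by
    obtain ⟨m, hm, e⟩ := hY' y
    rw [hker, hΨ y m hm e, ← e, ← map_inv, ← map_mul, ← map_mul, ← inv_mul_eq_one, ← map_inv, ← map_mul, hπ1,
      MulAction.Quotient.smul_coe, smul_eq_mul, QuotientGroup.eq]
    constructor
    · intro h
      have h1 := mul_mem (inv_mem hg'U) (hLU h)
      simpa [mul_assoc] using h1
    · intro h
      rw [hL]
      exact Subgroup.mem_inf.2 ⟨mul_mem (inv_mem (hMn.conj_mem m hm g')) hm, by simpa [mul_assoc] using mul_mem hg'U h⟩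
  have hfixeq : Nat.card {x : G ⧸ U // g • x = x} = Nat.card φ.ker := by
    have e1 : Nat.card {x : G ⧸ U // g • x = x} = Nat.card {x : G ⧸ U // g' • x = x} :=
      Nat.card_congr ((MulAction.toPerm a⁻¹).subtypeEquiv fun x => by
        rw [MulAction.toPerm_apply, hg', mul_smul, mul_smul, smul_inv_smul, smul_left_cancel_iff])
    rw [e1]
    exact (Nat.card_congr ((Equiv.ofBijective Ψ hΨb).subtypeEquiv fun y => hΨf y)).symm
  have hidx : U.index = Nat.card Y := (Nat.card_congr (Equiv.ofBijective Ψ hΨb)).symm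
  rw [hfixeq, hidx, Subgroup.card_eq_card_quotient_mul_card_subgroup φ.ker, mul_comm]
  rw [mul_comm (Nat.card φ.ker) p]
  refine Nat.mul_le_mul_right _ ?_
  rw [← Subgroup.index_eq_card, Subgroup.index_ker]
  -- the image is nontrivial
  have hne : Nontrivial φ.range := by
    rw [Subgroup.nontrivial_iff_ne_bot, Ne, MonoidHom.range_eq_bot_iff]
    intro h
    have hall : ∀ m ∈ M, π g' * π m * (π g')⁻¹ = π m := fun m hm =>
      (hker ⟨π m, hY.symm ▸ ⟨m, hm, rfl⟩⟩).1 (by rw [h]; rfl)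
    have hall' : ∀ x : G ⧸ U, g • x = x := fun x => by
      obtain ⟨y, hy⟩ := hΨb.2 (a⁻¹ • x)
      obtain ⟨m, hm, e⟩ := hY' y
      have h1 : g' • Ψ y = Ψ y := (hΨf y).1 ((hker y).2 (by rw [← e]; exact hall m hm))
      rw [hy, hg', mul_smul, mul_smul, smul_inv_smul, smul_left_cancel_iff] at h1
      exact h1
    have h2 : Subgroup.normalClosure {g} ≤ U.normalCore :=
      Subgroup.normalClosure_le_normal (Set.singleton_subset_iff.2 fun b => by
        have h1 := hall' ((b⁻¹ : G) : G ⧸ U)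
        rw [MulAction.Quotient.smul_coe, smul_eq_mul, eq_comm, QuotientGroup.eq, inv_inv] at h1
        rwa [mul_assoc])
    rw [hgen, top_le_iff] at h2
    exact hU.1 (top_le_iff.1 (h2 ▸ Subgroup.normalCore_le U))
  have hexp : ∀ y : φ.range, (y : Y) ^ r = 1 := fun y => by
    obtain ⟨m, hm, e⟩ := hY' (y : Y)
    exact Subtype.ext (by rw [Subgroup.coe_pow, ← e, hrM m hm, Subgroup.coe_one])
  by_cases hrp : r = p
  · obtain ⟨y, hy⟩ := exists_ne (1 : φ.range)
    have := orderOf_eq_prime (p := r) (hp := ⟨hr⟩) (Subtype.ext (hexp y)) hy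
    exact Nat.le_of_dvd Nat.card_pos (hrp ▸ this ▸ orderOf_dvd_natCard y)
  -- conjugation has only one fixed point on the image
  obtain ⟨c, hc⟩ : ∃ c : Equiv.Perm Y, ∀ y, (c y).1 = π g' * y.1 * (π g')⁻¹ := by
    refine ⟨Equiv.ofBijective (fun y => ⟨π g' * y.1 * (π g')⁻¹, hYconj _ y.2⟩) (Finite.injective_iff_bijective.1 ?_), fun y => rfl⟩
    intro x y h
    exact Subtype.ext (by simpa using congrArg Subtype.val h)
  have hcr : ∀ y, y ∈ φ.range ↔ c y ∈ φ.range := by
    have h1 : ∀ y ∈ φ.range, c y ∈ φ.range := by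
      rintro _ ⟨y, rfl⟩
      refine ⟨c y, Subtype.ext ?_⟩
      rw [hc, show φ (c y) = ⟨π g' * (c y).1 * (π g')⁻¹, hYconj _ (c y).2⟩ * (c y)⁻¹ from rfl,
        show φ y = ⟨π g' * y.1 * (π g')⁻¹, hYconj _ y.2⟩ * y⁻¹ from rfl]
      simp [hc, mul_assoc]
    intro y
    refine ⟨h1 y, fun h => ?_⟩
    obtain ⟨⟨z, hz⟩, hzy⟩ := (Finite.injective_iff_bijective.1
      (fun z w h => Subtype.ext (c.injective (congrArg Subtype.val h)) :
        Function.Injective fun z : φ.range => (⟨c z.1, h1 _ z.2⟩ : φ.range))).2 ⟨c y, h⟩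
    exact c.injective (congrArg Subtype.val hzy) ▸ hz
  have hck : ∀ (k : ℕ) (y : Y), ((c ^ k) y).1 = π g' ^ k * y.1 * (π g' ^ k)⁻¹ := by
    intro k
    induction k with
    | zero => simp
    | succ k ih => intro y; rw [pow_succ', Equiv.Perm.mul_apply, hc, ih, pow_succ']; simp [mul_assoc]
  refine le_card_of_fixed hp (c.subtypePerm fun y => (hcr y).symm) ?_ ?_ hne
  · ext y
    rw [Equiv.Perm.subtypePerm_pow]
    simp [Equiv.Perm.subtypePerm_apply, hck, hg'p]
  · intro y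
    refine ⟨fun h => ?_, fun h => ?_⟩
    · obtain ⟨z, hz⟩ := y.2
      have h1 : π g' * (y : Y).1 * (π g')⁻¹ = (y : Y).1 := by
        rw [← hc]; exact congrArg (fun u : φ.range => ((u : Y) : G ⧸ L)) h
      have h2 : ∀ k : ℕ, π g' ^ k * z.1 * (π g' ^ k)⁻¹ = (y : Y).1 ^ k * z.1 := by
        intro k
        induction k with
        | zero => simp
        | succ k ih =>
          have hz' : π g' * z.1 * (π g')⁻¹ = (y : Y).1 * z.1 := by
            rw [← hz, show φ z = ⟨π g' * z.1 * (π g')⁻¹, hYconj _ z.2⟩ * z⁻¹ from rfl]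
            simp
          calc π g' ^ (k + 1) * z.1 * (π g' ^ (k + 1))⁻¹ = π g' * (π g' ^ k * z.1 * (π g' ^ k)⁻¹) * (π g')⁻¹ := by
                rw [pow_succ']; group
            _ = π g' * (y : Y).1 ^ k * (π g')⁻¹ * (π g' * z.1 * (π g')⁻¹) := by rw [ih]; group
            _ = _ := by rw [← conj_pow, h1, hz', ← mul_assoc, ← pow_succ]
      have h3 := h2 p
      rw [hg'p, one_mul, inv_one, mul_one] at h3
      have h4 : (y : Y).1 ^ p = 1 := (mul_eq_right.1 h3.symm)
      have h5 : (y : Y).1 ^ r = 1 := congrArg Subtype.val (hexp y)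
      have h6 := pow_gcd_eq_one.2 ⟨h4, h5⟩
      rw [(Nat.coprime_primes hp hr).2 (Ne.symm hrp), pow_one] at h6
      exact Subtype.ext (Subtype.ext h6)
    · subst h
      exact Subtype.ext (Subtype.ext (by simp [Equiv.Perm.subtypePerm_apply, hc]))

/-- The same for an arbitrary proper subgroup. -/
theorem card_fixed_mul_le [Group.IsSolvable G] {p : ℕ} (hp : p.Prime) {g : G} (hg : g ^ p = 1)
    (hgen : Subgroup.normalClosure {g} = ⊤) {H : Subgroup G} (hH : H ≠ ⊤) :
    p * Nat.card {x : G ⧸ H // g • x = x} ≤ H.index := by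
  classical
  obtain ⟨U, hU, hHU⟩ := (eq_top_or_exists_le_coatom H).resolve_left hH
  let e := Subgroup.quotientEquivProdOfLE hHU
  have he : ∀ x : G ⧸ H, g • (e x).1 = (e (g • x)).1 := fun x => by
    induction x using QuotientGroup.induction_on with
    | _ b => rfl
  have h1 : Nat.card {x : G ⧸ H // g • x = x} ≤ Nat.card ({x : G ⧸ U // g • x = x} × (U ⧸ H.subgroupOf U)) := by
    refine Nat.card_le_card_of_injective (fun x => (⟨(e x.1).1, by rw [he, x.2]⟩, (e x.1).2)) fun x y h => ?_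
    simp only [Prod.mk.injEq, Subtype.mk.injEq] at h
    exact Subtype.ext (e.injective (Prod.ext h.1 h.2))
  rw [Nat.card_prod] at h1
  refine (Nat.mul_le_mul_left p h1).trans ?_
  rw [← mul_assoc, ← Subgroup.index_eq_card, ← Subgroup.relIndex_mul_index hHU, mul_comm (H.relIndex U)]
  exact Nat.mul_le_mul (card_fixed_cosets_mul_le hp hg hgen hU) le_rfl

end Group

end Cfsg.Lib.Solv.FixedHalf
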