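import Cfsg.Agent.Lib.Solv.FixedHalf.Scalar
import Cfsg.Agent.Lib.Core.Layer

/-!
An element of prime order at least five whose conjugates generate a finite solvable group fixes less than half of
every faithful irreducible module.
-/

set_option autoImplicit false
set_option linter.style.haveILetI false

namespace Cfsg.Lib.Solv.FixedHalf

open scoped TensorProduct commutatorElement

universe u

/-- In every non-abelian minimal non-central normal `q`-section the fixed points are less than a square root. -/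
def SmallSections (G : Type u) [Group G] (g : G) : Prop :=
  ∀ q : ℕ, q.Prime → ∀ N : Subgroup G, N.Normal → IsPGroup q N → (∃ a ∈ N, ∃ b ∈ N, a * b ≠ b * a) →
    (∀ M : Subgroup G, M.Normal → M ≤ N → M ≠ N → M ≤ Subgroup.center G) →
    ∀ (Zc : Subgroup G) [Zc.Normal], Zc = N ⊓ Subgroup.center G →
      Nat.card {x : N.map (QuotientGroup.mk' Zc) // (g : G ⧸ Zc) * x * (g : G ⧸ Zc)⁻¹ = x} ^ 2 <
        Nat.card (N.map (QuotientGroup.mk' Zc))

/-- The bound over an algebraically closed field. -/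
theorem bound_closed {G : Type u} [Group G] [Finite G] [Group.IsSolvable G] {p : ℕ} (hp : p.Prime) (hp5 : 5 ≤ p) {g : G}
    (hg : g ^ p = 1) (hg1 : g ≠ 1) (hgen : Subgroup.normalClosure {g} = ⊤) (hsmall : SmallSections G g)
    {K : Type*} [Field K] [IsAlgClosed K] {W : Type*} [AddCommGroup W] [Module K W] [FiniteDimensional K W] [Nontrivial W]
    (R : G →* Module.End K W) (hR : FPF R) :
    2 * Module.finrank K (fixOf R g) < Module.finrank K W := by
  classical
  by_cases hex : ∃ q : ℕ, q.Prime ∧ ∃ N : Subgroup G, N.Normal ∧ IsPGroup q N ∧ ¬ N ≤ Subgroup.center G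
  · obtain ⟨q, hq, N₀, hN₀, hN₀q, hN₀c⟩ := hex
    obtain ⟨N, ⟨hNn, hNq, hNc⟩, hmin⟩ := wellFounded_lt.has_min
      {N : Subgroup G | N.Normal ∧ IsPGroup q N ∧ ¬ N ≤ Subgroup.center G} ⟨N₀, hN₀, hN₀q, hN₀c⟩
    haveI := hNn
    have hmin' : ∀ M : Subgroup G, M.Normal → M ≤ N → M ≠ N → M ≤ Subgroup.center G := fun M hM hMN hne => by
      by_contra h
      exact hmin M ⟨hM, hNq.to_le hMN, h⟩ (lt_of_le_of_ne hMN hne)
    by_cases hab : ∀ a ∈ N, ∀ b ∈ N, a * b = b * a
    · have h := bound_of_moved hp hg hgen R hR hq N hNq hab hNc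
      have hn : 0 < Module.finrank K W := Module.finrank_pos
      obtain ⟨k, rfl⟩ : ∃ k, p = k + 5 := ⟨p - 5, by omega⟩
      rw [show 2 * (k + 5) - 1 = 2 * k + 9 by omega] at h
      by_contra hge
      nlinarith [Nat.mul_le_mul_left ((k + 5) * (k + 5)) (not_lt.1 hge), Nat.zero_le (k * k * Module.finrank K W), Nat.zero_le (k * Module.finrank K W)]
    · push Not at hab
      obtain ⟨Zc, hZc⟩ : ∃ Zc, Zc = N ⊓ Subgroup.center G := ⟨_, rfl⟩
      haveI : Zc.Normal := ⟨fun z hz x => by
        rw [Subgroup.mem_center_iff.1 (hZc ▸ hz).2 x, mul_inv_cancel_right]; exact hz⟩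
      haveI : Fact q.Prime := ⟨hq⟩
      have hN1 : N ≠ ⊥ := fun h => hNc (h ▸ bot_le)
      refine bound_of_central R Zc (hZc ▸ inf_le_right)
        (Cfsg.Lib.Local.natCard_cast_ne_zero (hR q hq N hNn hNq hN1).1 (hNq.to_le (hZc ▸ inf_le_left))) fun U hU hU0 hs => ?_
      haveI : Nontrivial U := Submodule.nontrivial_iff_ne_bot.2 hU0
      exact bound_of_scalar hp hp5 hg hgen (restrictRep R U hU) (restrictRep_fpf hR U hU) hq N hNq hab hmin' (hZc ▸ hs)
        Zc hZc (hsmall q hq N hNn hNq hab hmin' Zc hZc)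
  · push Not at hex
    have hF : Cfsg.fittingSubgroup G ≤ Subgroup.center G := by
      rw [Cfsg.Lib.Core.fittingSubgroup_eq_iSup_pCore]
      exact iSup_le fun q => haveI : Fact (q : ℕ).Prime := ⟨q.2⟩
        hex q q.2 _ inferInstance (Cfsg.Lib.Core.pCore_isPGroup q G)
    have hZ : Subgroup.center G = ⊤ := top_le_iff.1 fun x _ => hF (Cfsg.Lib.Core.centralizer_fitting_le_of_isSolvable
      (Subgroup.mem_centralizer_iff.2 fun y hy => (Subgroup.mem_center_iff.1 (hF hy) x).symm))
    have hzp : (Subgroup.zpowers g).Normal := ⟨fun z hz x => by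
      rw [Subgroup.mem_center_iff.1 (hZ ▸ Subgroup.mem_top z) x, mul_inv_cancel_right]; exact hz⟩
    have htop : Subgroup.zpowers g = ⊤ := top_le_iff.1 (hgen ▸ Subgroup.normalClosure_le_normal
      (Set.singleton_subset_iff.2 (Subgroup.mem_zpowers g)))
    haveI : Fact p.Prime := ⟨hp⟩
    have hpG : IsPGroup p (⊤ : Subgroup G) := IsPGroup.of_card (n := 1) (by
      rw [← htop, Nat.card_zpowers, orderOf_eq_prime hg hg1, pow_one])
    have hne : (⊤ : Subgroup G) ≠ ⊥ := fun h => hg1 (by
      have : g ∈ (⊥ : Subgroup G) := h ▸ Subgroup.mem_top g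
      exact Subgroup.mem_bot.1 this)
    have h0 : fixOf R g = ⊥ := (Submodule.eq_bot_iff _).2 fun v hv => (hR p hp ⊤ inferInstance hpG hne).2 v fun x _ => by
      obtain ⟨k, rfl⟩ := mem_powers_iff_mem_zpowers.2 (show x ∈ Subgroup.zpowers g from htop ▸ Subgroup.mem_top x)
      suffices h : ∀ k : ℕ, R (g ^ k) v = v from h k
      intro k
      induction k with
      | zero => simp
      | succ k ih => rw [pow_succ, rep_mul, mem_fixOf.1 hv]; exact ih
    rw [h0, finrank_bot, mul_zero]
    exact Module.finrank_pos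

/-- Extending scalars of a representation. -/
noncomputable def extendRep {G : Type*} [Group G] {k : Type*} [Field k] (K : Type*) [Field K] [Algebra k K]
    {V : Type*} [AddCommGroup V] [Module k V] (R : G →* Module.End k V) : G →* Module.End K (K ⊗[k] V) where
  toFun x := (R x).baseChange K
  map_one' := by rw [map_one]; exact LinearMap.baseChange_id
  map_mul' x y := by rw [map_mul]; exact LinearMap.baseChange_comp _ _

/-- Fixed-point-freeness of normal `q`-subgroups on a faithful irreducible module. -/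
theorem fpf_of_irr {G : Type u} [Group G] [Finite G] {k : Type*} [Field k] {V : Type*} [AddCommGroup V] [Module k V]
    [Nontrivial V] (R : G →* Module.End k V) (hinj : Function.Injective R)
    (hirr : ∀ U : Submodule k V, (∀ x, ∀ v ∈ U, R x v ∈ U) → U = ⊥ ∨ U = ⊤) : FPF R := by
  classical
  intro q hq N hN hNq hN1
  haveI : Fact q.Prime := ⟨hq⟩
  have hfix : ∀ w : V, (∀ x ∈ N, R x w = w) → w = 0 := by
    let U : Submodule k V :=
      { carrier := {w | ∀ x ∈ N, R x w = w}
        zero_mem' := fun x _ => map_zero _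
        add_mem' := fun {a b} ha hb x hx => by rw [map_add, ha x hx, hb x hx]
        smul_mem' := fun c a ha x hx => by rw [map_smul, ha x hx] }
    have hU : ∀ y, ∀ v ∈ U, R y v ∈ U := fun y v hv x hx => by
      rw [← rep_mul, show x * y = y * (y⁻¹ * x * y) by group, rep_mul, hv _ (by simpa using hN.conj_mem x hx y⁻¹)]
    rcases hirr U hU with h | h
    · intro w hw
      have hw' : w ∈ U := hw
      rwa [h, Submodule.mem_bot] at hw'
    · refine absurd ((Subgroup.eq_bot_iff_forall N).2 fun x hx => hinj ?_) hN1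
      rw [map_one]
      exact LinearMap.ext fun w => (h ▸ Submodule.mem_top : w ∈ U) x hx
  refine ⟨fun hq0 => ?_, hfix⟩
  -- in characteristic `q` a `q`-group fixes a nonzero vector
  haveI hcharK : CharP k q := (CharP.charP_iff_prime_eq_zero hq).2 hq0
  have hfixed : ∀ B : Subgroup G, IsPGroup q B → ∀ U : Submodule k V, U ≠ ⊥ → (∀ x ∈ B, ∀ v ∈ U, R x v ∈ U) →
      ∃ v ∈ U, v ≠ 0 ∧ ∀ x ∈ B, R x v = v := by
    intro B hB U hU hinv
    obtain ⟨v₀, hv₀, hv₀0⟩ := Submodule.exists_mem_ne_zero_of_ne_bot hU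
    have hqV : ∀ v : V, q • v = 0 := fun v => by rw [← Nat.cast_smul_eq_nsmul k, hq0, zero_smul]
    letI : Module (ZMod q) V := AddCommGroup.zmodModule (n := q) hqV
    let S : Submodule (ZMod q) V := Submodule.span (ZMod q) (Set.range fun x : B => R (x : G) v₀)
    haveI : Module.Finite (ZMod q) S := Module.Finite.span_of_finite (ZMod q) (Set.finite_range _)
    haveI : Finite S := Module.finite_of_finite (ZMod q)
    have hSinv : ∀ (x : B), ∀ v ∈ S, R (x : G) v ∈ S := fun x v hv => by
      refine Submodule.span_induction (p := fun v _ => R (x : G) v ∈ S) ?_ ?_ ?_ ?_ hv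
      · rintro _ ⟨y, rfl⟩
        rw [← rep_mul]
        exact Submodule.subset_span ⟨x * y, rfl⟩
      · rw [map_zero]; exact zero_mem S
      · intro a b _ _ ha hb; rw [map_add]; exact add_mem ha hb
      · intro c a _ ha
        obtain ⟨n, rfl⟩ := ZMod.natCast_zmod_surjective c
        rw [Nat.cast_smul_eq_nsmul, map_nsmul]
        exact nsmul_mem ha n
    have hSU : ∀ v ∈ S, v ∈ U := fun v hv => by
      refine Submodule.span_induction (p := fun v _ => v ∈ U) ?_ ?_ ?_ ?_ hv
      · rintro _ ⟨y, rfl⟩; exact hinv _ y.2 _ hv₀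
      · exact zero_mem U
      · intro a b _ _ ha hb; exact add_mem ha hb
      · intro c a _ ha
        obtain ⟨n, rfl⟩ := ZMod.natCast_zmod_surjective c
        rw [Nat.cast_smul_eq_nsmul]
        exact nsmul_mem ha n
    have hmem : v₀ ∈ S := Submodule.subset_span ⟨1, by simp⟩
    letI : MulAction B S :=
      { smul := fun x v => ⟨R (x : G) v.1, hSinv x v.1 v.2⟩
        one_smul := fun v => Subtype.ext (show R ((1 : B) : G) v.1 = v.1 by simp)
        mul_smul := fun x y v => Subtype.ext (show R ((x * y : B) : G) v.1 = R (x : G) (R (y : G) v.1) by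
          rw [← rep_mul]; rfl) }
    have hdvd : q ∣ Nat.card S := by
      have h1 : addOrderOf (⟨v₀, hmem⟩ : S) = q := addOrderOf_eq_prime
        (Subtype.ext (show q • v₀ = 0 by rw [← Nat.cast_smul_eq_nsmul k, hq0, zero_smul]))
        (fun h => hv₀0 (congrArg Subtype.val h))
      have h2 := addOrderOf_dvd_natCard (⟨v₀, hmem⟩ : S)
      rwa [h1] at h2
    obtain ⟨b, hb, hb0⟩ := hB.exists_fixed_point_of_prime_dvd_card_of_fixed_point S hdvd (a := (0 : S))
      (fun x => Subtype.ext (map_zero _))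
    exact ⟨b.1, hSU _ b.2, fun h => hb0 (Subtype.ext h.symm), fun x hx => congrArg Subtype.val (hb ⟨x, hx⟩)⟩
  obtain ⟨v, -, hv0, hv⟩ := hfixed N hNq ⊤ top_ne_bot fun _ _ _ _ => Submodule.mem_top
  exact hv0 (hfix v hv)

/-- The bound for a faithful irreducible module over any field. -/
theorem bound_irr {G : Type u} [Group G] [Finite G] [Group.IsSolvable G] {p : ℕ} (hp : p.Prime) (hp5 : 5 ≤ p) {g : G}
    (hg : g ^ p = 1) (hg1 : g ≠ 1) (hgen : Subgroup.normalClosure {g} = ⊤) (hsmall : SmallSections G g)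
    {k : Type*} [Field k] {V : Type*} [AddCommGroup V] [Module k V] [FiniteDimensional k V] [Nontrivial V]
    (R : G →* Module.End k V) (hinj : Function.Injective R)
    (hirr : ∀ U : Submodule k V, (∀ x, ∀ v ∈ U, R x v ∈ U) → U = ⊥ ∨ U = ⊤) :
    2 * Module.finrank k (fixOf R g) < Module.finrank k V := by
  classical
  have hR := fpf_of_irr R hinj hirr
  obtain ⟨R', hR'⟩ : ∃ R', R' = extendRep (AlgebraicClosure k) R := ⟨_, rfl⟩
  have hfpf : FPF R' := by
    intro q hq N hN hNq hN1
    obtain ⟨hq0, hfix⟩ := hR q hq N hN hNq hN1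
    haveI : Fact q.Prime := ⟨hq⟩
    have hqK : (q : AlgebraicClosure k) ≠ 0 := by
      rw [← map_natCast (algebraMap k (AlgebraicClosure k))]
      exact (map_ne_zero _).2 hq0
    refine ⟨hqK, fun w hw => ?_⟩
    haveI := Fintype.ofFinite N
    have hsum : ∑ x : N, R (x : G) = 0 := LinearMap.ext fun v => hfix _ fun y hy => by
      rw [LinearMap.sum_apply, map_sum]
      exact Fintype.sum_equiv (Equiv.mulLeft (⟨y, hy⟩ : N)) _ _ fun x => by rw [← rep_mul]; rfl
    have h1 : ∑ x : N, R' (x : G) w = (Nat.card N : AlgebraicClosure k) • w := by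
      rw [Finset.sum_congr rfl fun (x : N) _ => hw _ x.2, Finset.sum_const, Finset.card_univ,
        Nat.card_eq_fintype_card, Nat.cast_smul_eq_nsmul]
    have h2 : ∑ x : N, R' (x : G) w = 0 := by
      have h3 : ∀ u : (AlgebraicClosure k) ⊗[k] V, ∑ x : N, R' (x : G) u = 0 := by
        intro u
        induction u using TensorProduct.induction_on with
        | zero => simp
        | tmul c v =>
          rw [hR']
          simp only [extendRep, MonoidHom.coe_mk, OneHom.coe_mk, LinearMap.baseChange_tmul]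
          rw [← TensorProduct.tmul_sum, ← LinearMap.sum_apply, hsum, LinearMap.zero_apply, TensorProduct.tmul_zero]
        | add a b ha hb => simp only [map_add, Finset.sum_add_distrib, ha, hb, add_zero]
      exact h3 w
    rw [h2] at h1
    exact (smul_eq_zero.1 h1.symm).resolve_left (Cfsg.Lib.Local.natCard_cast_ne_zero hqK hNq)
  haveI : Nontrivial ((AlgebraicClosure k) ⊗[k] V) :=
    Module.nontrivial_of_finrank_pos (R := AlgebraicClosure k) (by rw [Module.finrank_baseChange]; exact Module.finrank_pos)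
  have h := bound_closed hp hp5 hg hg1 hgen hsmall R' hfpf
  rw [Module.finrank_baseChange] at h
  refine lt_of_le_of_lt (Nat.mul_le_mul_left 2 ?_) h
  rw [← Module.finrank_baseChange (R := AlgebraicClosure k) (S := k) (M' := fixOf R g)]
  have hinj' : Function.Injective ((fixOf R g).subtype.baseChange (AlgebraicClosure k)) :=
    Module.Flat.lTensor_preserves_injective_linearMap _ (Submodule.injective_subtype _)
  refine LinearMap.finrank_le_finrank_of_injective
    (f := LinearMap.codRestrict (fixOf R' g) ((fixOf R g).subtype.baseChange (AlgebraicClosure k)) fun u => ?_)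
    fun a b hab => hinj' (congrArg Subtype.val hab)
  rw [mem_fixOf]
  induction u using TensorProduct.induction_on with
  | zero => simp
  | tmul c v =>
    rw [hR']
    simp only [extendRep, MonoidHom.coe_mk, OneHom.coe_mk, LinearMap.baseChange_tmul, Submodule.subtype_apply]
    rw [mem_fixOf.1 v.2]
  | add a b ha hb => rw [map_add, map_add, ha, hb]

/-- All non-abelian sections are small. -/
theorem smallSections {p : ℕ} (hp : p.Prime) (hp5 : 5 ≤ p) :
    ∀ (n : ℕ) (G : Type u) [Group G] [Finite G] [Group.IsSolvable G] (g : G), Nat.card G = n → g ^ p = 1 →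
      Subgroup.normalClosure {g} = ⊤ → SmallSections G g := by
  intro n
  induction n using Nat.strong_induction_on with
  | _ n ih =>
  intro G _ _ _ g hn hg hgen q hq N hN hNq hnab hmin Zc _ hZc
  classical
  haveI := hN
  haveI : Fact q.Prime := ⟨hq⟩
  obtain ⟨hnd, hcom, hpow⟩ := section_facts hq N hNq hnab hmin
  rw [← hZc] at hcom hpow
  have hcen : ∀ z ∈ Zc, ∀ x : G, x * z = z * x := fun z hz x => Subgroup.mem_center_iff.1 (hZc ▸ hz).2 x
  obtain ⟨π, hπ⟩ : ∃ π : G →* G ⧸ Zc, π = QuotientGroup.mk' Zc := ⟨_, rfl⟩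
  have hπ1 : ∀ a, π a = 1 ↔ a ∈ Zc := fun a => by rw [hπ]; exact QuotientGroup.eq_one_iff a
  have hπeq : ∀ a b, π a = π b ↔ a⁻¹ * b ∈ Zc := fun a b => by rw [hπ]; exact QuotientGroup.eq
  rw [← hπ, show (g : G ⧸ Zc) = π g by rw [hπ]; rfl]
  obtain ⟨Y, hY⟩ : ∃ Y, Y = N.map π := ⟨_, rfl⟩
  rw [← hY]
  have hY' : ∀ x : Y, ∃ a ∈ N, π a = x.1 := fun x => by
    obtain ⟨a, ha, e⟩ : x.1 ∈ N.map π := by rw [← hY]; exact x.2
    exact ⟨a, ha, e⟩
  have hYmem : ∀ a ∈ N, π a ∈ Y := fun a ha => hY ▸ ⟨a, ha, rfl⟩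
  have hYc : ∀ x y : Y, x * y = y * x := fun x y => Subtype.ext (by
    obtain ⟨a, ha, ea⟩ := hY' x
    obtain ⟨b, hb, eb⟩ := hY' y
    rw [Subgroup.coe_mul, Subgroup.coe_mul, ← ea, ← eb, ← mul_inv_eq_one,
      show π a * π b * (π b * π a)⁻¹ = π ⁅a, b⁆ by simp [commutatorElement_def, mul_assoc], hπ1]
    exact hcom a ha b hb)
  letI : CommGroup Y := { (inferInstance : Group Y) with mul_comm := hYc }
  haveI : Module (ZMod q) (Additive Y) := AddCommGroup.zmodModule fun x => by
    show x.toMul ^ q = 1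
    obtain ⟨a, ha, e⟩ := hY' x.toMul
    exact Subtype.ext (by rw [Subgroup.coe_pow, ← e, ← map_pow]; exact (hπ1 _).2 (hpow a ha))
  have hconj : ∀ (x : G), ∀ y ∈ Y, π x * y * (π x)⁻¹ ∈ Y := fun x y hy => by
    obtain ⟨a, ha, rfl⟩ := hY ▸ hy
    rw [← map_inv, ← map_mul, ← map_mul]
    exact hYmem _ (hN.conj_mem a ha x)
  let r₀ : G → Module.End (ZMod q) (Additive Y) := fun x =>
    AddMonoidHom.toZModLinearMap q (AddMonoidHom.mk' (fun y : Additive Y =>
      Additive.ofMul (⟨π x * y.toMul.1 * (π x)⁻¹, hconj x _ y.toMul.2⟩ : Y)) fun y z => by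
        refine Additive.toMul.injective (Subtype.ext ?_)
        show π x * (y.toMul.1 * z.toMul.1) * (π x)⁻¹ = π x * y.toMul.1 * (π x)⁻¹ * (π x * z.toMul.1 * (π x)⁻¹)
        group)
  have hr₀ : ∀ x (y : Additive Y), ((r₀ x y).toMul).1 = π x * y.toMul.1 * (π x)⁻¹ := fun x y => rfl
  obtain ⟨r, hr⟩ : ∃ r : G →* Module.End (ZMod q) (Additive Y),
      ∀ x (y : Additive Y), ((r x y).toMul).1 = π x * y.toMul.1 * (π x)⁻¹ := ⟨
    { toFun := r₀
      map_one' := LinearMap.ext fun y => Additive.toMul.injective (Subtype.ext (by rw [hr₀]; simp))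
      map_mul' := fun a b => LinearMap.ext fun y => Additive.toMul.injective (Subtype.ext (by
        rw [hr₀, Module.End.mul_apply, hr₀, hr₀, map_mul]; simp [mul_assoc])) }, hr₀⟩
  -- `N` acts trivially, `g` does not
  have hNker : N ≤ r.ker := fun x hx => MonoidHom.mem_ker.2 (LinearMap.ext fun y => Additive.toMul.injective (Subtype.ext (by
    rw [hr, Module.End.one_apply]
    exact mul_inv_eq_iff_eq_mul.2 (congrArg Subtype.val (hYc ⟨π x, hYmem x hx⟩ y.toMul)))))
  have hgker : g ∉ r.ker := by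
    intro hgk
    have hall : r.ker = ⊤ := top_le_iff.1 (hgen ▸ Subgroup.normalClosure_le_normal (Set.singleton_subset_iff.2 hgk))
    have htriv : ∀ (x : G), ∀ a ∈ N, π (x * a * x⁻¹) = π a := fun x a ha => by
      have h1 := LinearMap.congr_fun (MonoidHom.mem_ker.1 (hall ▸ Subgroup.mem_top x : x ∈ r.ker)) (Additive.ofMul ⟨π a, hYmem a ha⟩)
      have h2 := congrArg (fun y : Additive Y => y.toMul.1) h1
      simp only [hr] at h2
      simpa using h2
    obtain ⟨a, ha, b, hb, hab⟩ := hnab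
    let S : Subgroup G := N ⊓ (Subgroup.zpowers (π a)).comap π
    have hSn : S.Normal := ⟨fun y hy x => ⟨hN.conj_mem y hy.1 x, by
      show π (x * y * x⁻¹) ∈ Subgroup.zpowers (π a)
      rw [htriv x y hy.1]; exact hy.2⟩⟩
    have hSN : S ≠ N := by
      intro h
      have hb' : b ∈ S := by rw [h]; exact hb
      obtain ⟨k, hk⟩ := Subgroup.mem_zpowers_iff.1 hb'.2
      rw [← map_zpow] at hk
      have hz := (hπeq _ _).1 hk
      apply hab
      rw [show b = a ^ k * ((a ^ k)⁻¹ * b) by rw [mul_inv_cancel_left]]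
      exact ((Commute.self_zpow a k).mul_right (hcen _ hz a)).eq
    exact hab (Subgroup.mem_center_iff.1 (hmin S hSn inf_le_left hSN ⟨ha, Subgroup.mem_zpowers _⟩) b).symm
  have hN1 : N ≠ ⊥ := fun h => by
    obtain ⟨a, ha, b, hb, hab⟩ := hnab
    rw [h, Subgroup.mem_bot] at ha
    exact hab (by rw [ha]; simp)
  have hlt : Nat.card (G ⧸ r.ker) < n := by
    rw [← hn, Subgroup.card_eq_card_quotient_mul_card_subgroup r.ker]
    refine lt_mul_of_one_lt_right Nat.card_pos ((Subgroup.one_lt_card_iff_ne_bot _).2 fun h => hN1 ?_)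
    exact le_bot_iff.1 (h ▸ hNker)
  have hgen' : Subgroup.normalClosure {(g : G ⧸ r.ker)} = ⊤ := by
    have h := Subgroup.map_normalClosure {g} (QuotientGroup.mk' r.ker) (QuotientGroup.mk'_surjective r.ker)
    rw [hgen, Subgroup.map_top_of_surjective _ (QuotientGroup.mk'_surjective r.ker), Set.image_singleton] at h
    exact h.symm
  have hg' : (g : G ⧸ r.ker) ^ p = 1 := by rw [← QuotientGroup.mk_pow, hg]; rfl
  haveI : Group.IsSolvable (G ⧸ r.ker) := Group.isSolvable_of_surjective (QuotientGroup.mk'_surjective r.ker)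
  haveI : Module.Finite (ZMod q) (Additive Y) := Module.Finite.of_finite
  obtain ⟨a₁, ha₁, b₁, hb₁, hab₁⟩ := hnab
  haveI : Nontrivial (Additive Y) := ⟨⟨Additive.ofMul ⟨π a₁, hYmem a₁ ha₁⟩, 0, fun h => hab₁ (hcen a₁ ((hπ1 a₁).1
    (congrArg (fun y : Additive Y => y.toMul.1) h)) b₁).symm⟩⟩
  obtain ⟨r', hr', hinj⟩ : ∃ r' : G ⧸ r.ker →* Module.End (ZMod q) (Additive Y),
      (∀ x : G, r' (x : G ⧸ r.ker) = r x) ∧ Function.Injective r' :=
    ⟨QuotientGroup.lift r.ker r le_rfl, fun _ => rfl, by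
      intro a b h
      induction a using QuotientGroup.induction_on with
      | _ a =>
      induction b using QuotientGroup.induction_on with
      | _ b =>
      refine QuotientGroup.eq.2 (MonoidHom.mem_ker.2 ?_)
      rw [map_mul, ← show r a = r b from h, ← map_mul, inv_mul_cancel, map_one]⟩
  have hb := bound_irr hp hp5 hg' (fun h => hgker ((QuotientGroup.eq_one_iff g).1 h)) hgen'
    (ih _ hlt (G ⧸ r.ker) (g : G ⧸ r.ker) rfl hg' hgen') r' hinj (by
      intro U hU
      let M : Subgroup G :=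
        { carrier := {a | ∃ ha : a ∈ N, (Additive.ofMul (⟨π a, hYmem a ha⟩ : Y)) ∈ U}
          one_mem' := ⟨one_mem N, by
            rw [show (⟨π 1, hYmem 1 (one_mem N)⟩ : Y) = 1 from Subtype.ext (map_one π)]; exact zero_mem U⟩
          mul_mem' := fun {a b} ⟨ha, ha'⟩ ⟨hb, hb'⟩ => ⟨mul_mem ha hb, by
            rw [show (⟨π (a * b), hYmem _ (mul_mem ha hb)⟩ : Y) = ⟨π a, hYmem a ha⟩ * ⟨π b, hYmem b hb⟩ from
              Subtype.ext (map_mul π a b)]
            exact add_mem ha' hb'⟩
          inv_mem' := fun {a} ⟨ha, ha'⟩ => ⟨inv_mem ha, by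
            rw [show (⟨π a⁻¹, hYmem _ (inv_mem ha)⟩ : Y) = (⟨π a, hYmem a ha⟩ : Y)⁻¹ from Subtype.ext (map_inv π a)]
            exact neg_mem ha'⟩ }
      have hMn : M.Normal := ⟨fun a ⟨ha, ha'⟩ x => ⟨hN.conj_mem a ha x, by
        have h1 := hU (x : G ⧸ r.ker) _ ha'
        rw [hr'] at h1
        rwa [show r x (Additive.ofMul ⟨π a, hYmem a ha⟩) = Additive.ofMul (⟨π (x * a * x⁻¹), hYmem _ (hN.conj_mem a ha x)⟩ : Y) from
          Additive.toMul.injective (Subtype.ext (by rw [hr]; simp))] at h1⟩⟩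
      by_cases hM : M = N
      · refine Or.inr (Submodule.eq_top_iff'.2 fun y => ?_)
        obtain ⟨a, ha, e⟩ := hY' y.toMul
        obtain ⟨_, h1⟩ : a ∈ M := by rw [hM]; exact ha
        rwa [show (⟨π a, hYmem a ha⟩ : Y) = y.toMul from Subtype.ext e] at h1
      · refine Or.inl ((Submodule.eq_bot_iff _).2 fun y hy => ?_)
        obtain ⟨a, ha, e⟩ := hY' y.toMul
        have haM : a ∈ M := ⟨ha, by rwa [show (⟨π a, hYmem a ha⟩ : Y) = y.toMul from Subtype.ext e]⟩
        have haZ : a ∈ Zc := hZc ▸ ⟨ha, hmin M hMn (fun x hx => hx.1) hM haM⟩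
        exact Additive.toMul.injective (Subtype.ext (by rw [← e]; exact (hπ1 a).2 haZ)))
  have hC : Nat.card {x : Y // π g * ↑x * (π g)⁻¹ = ↑x} =
      Nat.card (fixOf r' (g : G ⧸ r.ker)) :=
    Nat.card_congr (Additive.ofMul.subtypeEquiv fun x => by
      rw [mem_fixOf, hr', ← Additive.toMul.injective.eq_iff, Subtype.ext_iff, hr]
      rfl)
  rw [hC, ← Nat.card_congr (Additive.ofMul (α := Y)).symm,
    Module.natCard_eq_pow_finrank (K := ZMod q) (V := fixOf r' (g : G ⧸ r.ker)),
    Module.natCard_eq_pow_finrank (K := ZMod q) (V := Additive Y), Nat.card_zmod, ← pow_mul]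
  exact Nat.pow_lt_pow_right hq.one_lt (by omega)

end Cfsg.Lib.Solv.FixedHalf
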