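import Cfsg.Agent.Lib.Solv.FixedHalf.Weights

/-!
The fixed space bound when a minimal non-central normal `q`-subgroup is non-abelian with scalar centre: the
commutant of the element is small because that subgroup spans a full matrix factor.
-/

set_option autoImplicit false
set_option linter.style.haveILetI false

namespace Cfsg.Lib.Solv.FixedHalf

open scoped commutatorElement

/-- The numerical heart of the argument. -/
theorem four_mul_le {p q m c : ℕ} (hp5 : 5 ≤ p) (hp : p.Prime) (hq : q.Prime) (hm : 2 ≤ m) (hc : 2 * c < m)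
    (hdvd : p ∣ q ^ m + (p - 1) * q ^ c) : 4 * (q ^ m + (p - 1) * q ^ c) ≤ p * q ^ m := by
  obtain ⟨j, rfl⟩ : ∃ j, m = c + j := ⟨m - c, by omega⟩
  have hj : 2 ≤ j := by omega
  rw [pow_add] at hdvd ⊢
  have h : 4 * (q ^ j + (p - 1)) ≤ p * q ^ j := by
    obtain ⟨k, rfl⟩ : ∃ k, p = k + 5 := ⟨p - 5, by omega⟩
    rw [show k + 5 - 1 = k + 4 by omega] at hdvd ⊢
    by_cases h16 : 16 ≤ q ^ j
    · nlinarith
    have h2 : q ^ 2 ≤ q ^ j := Nat.pow_le_pow_right hq.pos hj
    have hq4 : q ≤ 3 := by nlinarith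
    have hne : q ≠ k + 5 := by omega
    have hd : k + 5 ∣ q ^ j + (k + 4) := by
      rw [← Nat.mul_add (q ^ c) (q ^ j) (k + 4) |>.trans (by ring : q ^ c * q ^ j + q ^ c * (k + 4) = q ^ c * q ^ j + (k + 4) * q ^ c)] at hdvd
      exact (Nat.Coprime.dvd_of_dvd_mul_left (((Nat.coprime_primes hp hq).2 (Ne.symm hne)).pow_right c) hdvd)
    have hj3 : j ≤ 3 := by
      by_contra hj'
      have : q ^ 4 ≤ q ^ j := Nat.pow_le_pow_right hq.pos (by omega)
      have : 2 ^ 4 ≤ q ^ 4 := Nat.pow_le_pow_left hq.two_le 4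
      omega
    have hq23 : q = 2 ∨ q = 3 := by have := hq.two_le; omega
    obtain ⟨a, ha⟩ := hd
    have h1 : 0 < a := Nat.pos_of_ne_zero fun h => by rw [h, mul_zero] at ha; omega
    have h1' : a ≠ 1 := fun h => by
      rw [h, mul_one] at ha
      have : 4 ≤ q ^ j := le_trans (Nat.pow_le_pow_left hq.two_le 2) h2
      omega
    have hk4 : 2 * (k + 5) ≤ q ^ j + (k + 4) := by
      rw [ha, mul_comm 2]; exact Nat.mul_le_mul_left _ (by omega)
    rcases hq23 with rfl | rfl <;> interval_cases j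
    · norm_num at ha hk4 ⊢; omega
    · have hk : k ≤ 2 := by norm_num at hk4; omega
      interval_cases k
      · norm_num at ha; omega
      · norm_num at hp
      · norm_num
    · have hk : k ≤ 3 := by norm_num at hk4; omega
      interval_cases k
      · norm_num at ha; omega
      · norm_num at hp
      · norm_num at ha; omega
      · norm_num at hp
    · norm_num at h16
  calc 4 * (q ^ c * q ^ j + (p - 1) * q ^ c) = q ^ c * (4 * (q ^ j + (p - 1))) := by ring
    _ ≤ q ^ c * (p * q ^ j) := Nat.mul_le_mul_left _ h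
    _ = _ := by ring

variable {G : Type*} [Group G] [Finite G] [Group.IsSolvable G] {K : Type*} [Field K] {W : Type*} [AddCommGroup W]
  [Module K W] [FiniteDimensional K W]

/-- The section of a normal subgroup by its central part. -/
theorem section_facts {q : ℕ} (hq : q.Prime) (N : Subgroup G) [hN : N.Normal] (hNq : IsPGroup q N)
    (hnab : ∃ a ∈ N, ∃ b ∈ N, a * b ≠ b * a)
    (hmin : ∀ M : Subgroup G, M.Normal → M ≤ N → M ≠ N → M ≤ Subgroup.center G) :
    (∀ x ∈ N, (∀ y ∈ N, ⁅y, x⁆ = 1) → x ∈ Subgroup.center G) ∧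
    (∀ x ∈ N, ∀ y ∈ N, ⁅x, y⁆ ∈ N ⊓ Subgroup.center G) ∧
    (∀ x ∈ N, x ^ q ∈ N ⊓ Subgroup.center G) := by
  have hNbot : N ≠ ⊥ := fun h => by
    obtain ⟨a, ha, b, hb, hab⟩ := hnab
    rw [h, Subgroup.mem_bot] at ha
    exact hab (by rw [ha]; simp)
  have hcom : ∀ x ∈ N, ∀ y ∈ N, ⁅x, y⁆ ∈ N ⊓ Subgroup.center G := fun x hx y hy =>
    ⟨Subgroup.commutator_le_left N N (Subgroup.commutator_mem_commutator hx hy),
      hmin _ inferInstance (Subgroup.commutator_le_left N N) (Group.IsSolvable.commutator_lt_of_ne_bot hNbot).ne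
        (Subgroup.commutator_mem_commutator hx hy)⟩
  refine ⟨fun x hx h => ?_, hcom, ?_⟩
  · refine hmin (N ⊓ Subgroup.centralizer (N : Set G)) inferInstance inf_le_left (fun h1 => ?_) ?_
    · obtain ⟨a, ha, b, hb, hab⟩ := hnab
      have hb' : b ∈ N ⊓ Subgroup.centralizer (N : Set G) := by rw [h1]; exact hb
      exact hab (Subgroup.mem_centralizer_iff.1 hb'.2 a ha)
    · exact ⟨hx, Subgroup.mem_centralizer_iff.2 fun y hy => commutatorElement_eq_one_iff_mul_comm.1 (h y hy)⟩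
  · obtain ⟨Zc, hZc⟩ : ∃ Zc, Zc = N ⊓ Subgroup.center G := ⟨_, rfl⟩
    have hc : ∀ z ∈ Zc, ∀ x : G, x * z = z * x := fun z hz x =>
      Subgroup.mem_center_iff.1 (hZc ▸ hz).2 x
    haveI : Zc.Normal := ⟨fun z hz x => by rw [hc z hz x, mul_inv_cancel_right]; exact hz⟩
    let π := QuotientGroup.mk' Zc
    have hπ1 : ∀ a, π a = 1 ↔ a ∈ Zc := fun a => QuotientGroup.eq_one_iff a
    have hab : ∀ a ∈ N, ∀ b ∈ N, Commute (π a) (π b) := fun a ha b hb => by
      rw [← commutatorElement_eq_one_iff_commute,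
        show ⁅π a, π b⁆ = π ⁅a, b⁆ by rw [map_commutatorElement], hπ1, hZc]
      exact hcom a ha b hb
    let S : Subgroup G :=
      { carrier := {x | x ∈ N ∧ π x ^ q = 1}
        one_mem' := ⟨one_mem N, by simp⟩
        mul_mem' := fun {a b} ha hb => ⟨mul_mem ha.1 hb.1, by
          rw [map_mul, (hab a ha.1 b hb.1).mul_pow, ha.2, hb.2, one_mul]⟩
        inv_mem' := fun {a} ha => ⟨inv_mem ha.1, by rw [map_inv, inv_pow, ha.2, inv_one]⟩ }
    have hSn : S.Normal := ⟨fun x hx y => ⟨hN.conj_mem x hx.1 y, by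
      rw [map_mul, map_mul, map_inv, conj_pow, hx.2, mul_one, mul_inv_cancel]⟩⟩
    intro x hx
    rw [← hZc, ← hπ1, map_pow]
    by_cases hS : S = N
    · exact ((hS.symm ▸ hx : x ∈ S)).2
    exfalso
    have hSc := hmin S hSn (fun y hy => hy.1) hS
    obtain ⟨a, ha, haZ⟩ : ∃ a ∈ N, a ∉ Zc := by
      by_contra h
      push Not at h
      obtain ⟨a, ha, b, hb, hab⟩ := hnab
      exact hab (hc b (h b hb) a)
    obtain ⟨k, hk⟩ := hNq ⟨a, ha⟩
    have hk' : π a ^ q ^ k = 1 := by rw [← map_pow, show a ^ q ^ k = 1 from congrArg Subtype.val hk, map_one]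
    haveI : Fact q.Prime := ⟨hq⟩
    obtain ⟨i, hi⟩ := (Nat.dvd_prime_pow hq).1 (orderOf_dvd_of_pow_eq_one hk')
    rcases Nat.eq_zero_or_pos i with h0 | hpos
    · rw [h0, pow_zero, orderOf_eq_one_iff, hπ1] at hi
      exact haZ hi.2
    · have hmem : a ^ q ^ (i - 1) ∈ S := ⟨pow_mem ha _, by
        rw [map_pow, ← pow_mul, ← pow_succ, Nat.sub_add_cancel hpos, ← hi.2, pow_orderOf_eq_one]⟩
      have h1 : π a ^ q ^ (i - 1) = 1 := by rw [← map_pow, hπ1, hZc]; exact ⟨pow_mem ha _, hSc hmem⟩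
      have := Nat.le_of_dvd (pow_pos hq.pos _) (orderOf_dvd_of_pow_eq_one h1)
      rw [hi.2] at this
      have := Nat.pow_lt_pow_right hq.one_lt (show i - 1 < i by omega)
      omega

/-- The bound for a scalar centre. -/
theorem bound_of_scalar [Nontrivial W] {p : ℕ} (hp : p.Prime) (hp5 : 5 ≤ p) {g : G} (hg : g ^ p = 1)
    (hgen : Subgroup.normalClosure {g} = ⊤) (R : G →* Module.End K W) (hR : FPF R)
    {q : ℕ} (hq : q.Prime) (N : Subgroup G) [hN : N.Normal] (hNq : IsPGroup q N)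
    (hnab : ∃ a ∈ N, ∃ b ∈ N, a * b ≠ b * a)
    (hmin : ∀ M : Subgroup G, M.Normal → M ≤ N → M ≠ N → M ≤ Subgroup.center G)
    (hscal : ∀ z ∈ N ⊓ Subgroup.center G, ∃ s : K, R z = s • (1 : Module.End K W))
    (Zc : Subgroup G) (hZc : Zc = N ⊓ Subgroup.center G) [Zc.Normal]
    (hsmall : Nat.card {x : N.map (QuotientGroup.mk' Zc) // (g : G ⧸ Zc) * x * (g : G ⧸ Zc)⁻¹ = x} ^ 2 <
      Nat.card (N.map (QuotientGroup.mk' Zc))) :
    2 * Module.finrank K (fixOf R g) < Module.finrank K W := by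
  classical
  haveI : Fact q.Prime := ⟨hq⟩
  obtain ⟨hnd, hcom, hpow⟩ := section_facts hq N hNq hnab hmin
  rw [← hZc] at hcom hpow hscal
  have hcen : ∀ z ∈ Zc, ∀ x : G, x * z = z * x := fun z hz x => Subgroup.mem_center_iff.1 (hZc ▸ hz).2 x
  obtain ⟨π, hπ⟩ : ∃ π : G →* G ⧸ Zc, π = QuotientGroup.mk' Zc := ⟨_, rfl⟩
  have hπ1 : ∀ a, π a = 1 ↔ a ∈ Zc := fun a => by rw [hπ]; exact QuotientGroup.eq_one_iff a
  have hπeq : ∀ a b, π a = π b ↔ a⁻¹ * b ∈ Zc := fun a b => by rw [hπ]; exact QuotientGroup.eq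
  rw [← hπ, show (g : G ⧸ Zc) = π g by rw [hπ]; rfl] at hsmall
  obtain ⟨Y, hY⟩ : ∃ Y, Y = N.map π := ⟨_, rfl⟩
  rw [← hY] at hsmall
  haveI := Fintype.ofFinite Y
  have hYmem : ∀ a ∈ N, π a ∈ Y := fun a ha => hY ▸ ⟨a, ha, rfl⟩
  have hlift : ∀ x : Y, ∃ a ∈ N, π a = x.1 := fun x => by
    obtain ⟨a, ha, e⟩ : x.1 ∈ N.map π := by rw [← hY]; exact x.2
    exact ⟨a, ha, e⟩
  choose l hlN hlπ using hlift
  -- operators of the centre commute with everything
  have hzc : ∀ z ∈ Zc, ∀ T : Module.End K W, R z * T = T * R z := fun z hz T => by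
    obtain ⟨s, hs⟩ := hscal z hz
    rw [hs, smul_one_mul, mul_smul_one]
  have hRinv : ∀ a : G, R a * R a⁻¹ = 1 := fun a => by rw [← map_mul, mul_inv_cancel, map_one]
  have horth : ∀ u ∈ N, u ∉ Zc → ∑ x : Y, R ⁅l x, u⁆ = 0 := by
    intro u hu huZ
    have hshift : ∀ a ∈ N, R ⁅a, u⁆ * ∑ x : Y, R ⁅l x, u⁆ = ∑ x : Y, R ⁅l x, u⁆ := by
      intro a ha
      rw [Finset.mul_sum]
      refine Fintype.sum_equiv (Equiv.mulLeft (⟨π a, hYmem a ha⟩ : Y)) _ _ fun x => ?_
      rw [← map_mul, Equiv.coe_mulLeft]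
      congr 1
      have hz : (a * l x)⁻¹ * l (⟨π a, hYmem a ha⟩ * x) ∈ Zc := by
        rw [← hπeq, map_mul, hlπ, hlπ]; rfl
      obtain ⟨z, hzdef⟩ : ∃ z, z = (a * l x)⁻¹ * l (⟨π a, hYmem a ha⟩ * x) := ⟨_, rfl⟩
      rw [← hzdef] at hz
      have e : l (⟨π a, hYmem a ha⟩ * x) = a * l x * z := by rw [hzdef, mul_inv_cancel_left]
      rw [e]
      have e2 : ⁅a * l x * z, u⁆ = ⁅a * l x, u⁆ := by
        have h1 : z * u * z⁻¹ = u := by rw [← hcen z hz u, mul_inv_cancel_right]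
        calc ⁅a * l x * z, u⁆ = a * l x * (z * u * z⁻¹) * (a * l x)⁻¹ * u⁻¹ := by rw [commutatorElement_def]; group
          _ = _ := by rw [h1, commutatorElement_def]
      have e3 : ⁅a * l x, u⁆ = a * ⁅l x, u⁆ * a⁻¹ * ⁅a, u⁆ := by simp only [commutatorElement_def]; group
      rw [e2, e3, hcen _ (hcom _ (hlN x) _ hu) a, mul_inv_cancel_right, hcen _ (hcom a ha u hu) ⁅l x, u⁆]
    obtain ⟨H, hH⟩ : ∃ H, H = Subgroup.closure ((fun a => ⁅a, u⁆) '' (N : Set G)) := ⟨_, rfl⟩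
    have hHZ : H ≤ Zc := hH ▸ (Subgroup.closure_le _).2 (by rintro _ ⟨a, ha, rfl⟩; exact hcom a ha u hu)
    have hHn : H.Normal := ⟨fun h hh x => by rw [hcen h (hHZ hh) x, mul_inv_cancel_right]; exact hh⟩
    have hH1 : H ≠ ⊥ := fun h => huZ (hZc ▸ ⟨hu, hnd u hu fun y hy =>
      (Subgroup.eq_bot_iff_forall _).1 h _ (hH ▸ Subgroup.subset_closure ⟨y, hy, rfl⟩)⟩)
    obtain ⟨S, hS⟩ : ∃ S, S = ∑ x : Y, R ⁅l x, u⁆ := ⟨_, rfl⟩
    rw [← hS] at hshift ⊢
    refine LinearMap.ext fun w => (hR q hq H hHn (hNq.to_le (hHZ.trans (hZc ▸ inf_le_left))) hH1).2 _ fun h hh => ?_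
    let T : Subgroup G :=
      { carrier := {y | R y (S w) = S w}
        one_mem' := by simp
        mul_mem' := fun {a b} (ha : R a _ = _) (hb : R b _ = _) => show R (a * b) _ = _ by rw [rep_mul, hb, ha]
        inv_mem' := fun {a} (ha : R a _ = _) => show R a⁻¹ _ = _ from rep_inj R a (by
          rw [← rep_mul, mul_inv_cancel, map_one, ha]; rfl) }
    have : H ≤ T := hH ▸ (Subgroup.closure_le _).2 (by
      rintro _ ⟨a, ha, rfl⟩
      exact LinearMap.congr_fun (hshift a ha) w)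
    exact this hh
  -- the commutant of `N`
  let E : Submodule K (Module.End K W) :=
    { carrier := {T | ∀ a ∈ N, R a * T = T * R a}
      zero_mem' := fun a _ => by rw [mul_zero, zero_mul]
      add_mem' := fun {S T} hS hT a ha => by rw [mul_add, add_mul, hS a ha, hT a ha]
      smul_mem' := fun c T hT a ha => by rw [mul_smul_comm, smul_mul_assoc, hT a ha] }
  let Φ : (Y → E) →ₗ[K] Module.End K W :=
    { toFun := fun b => ∑ x, R (l x) * (b x : Module.End K W)
      map_add' := fun b b' => by simp [mul_add, Finset.sum_add_distrib]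
      map_smul' := fun c b => by simp [Finset.smul_sum] }
  have hQ : (Nat.card Y : K) ≠ 0 := by
    have hN1 : N ≠ ⊥ := fun h => by
      obtain ⟨a, ha, b, hb, hab⟩ := hnab
      rw [h, Subgroup.mem_bot] at ha
      exact hab (by rw [ha]; simp)
    exact Cfsg.Lib.Local.natCard_cast_ne_zero (hR q hq N hN hNq hN1).1 (hY ▸ hNq.map π)
  have hsum1 : ∀ u ∈ Zc, ∑ x : Y, R ⁅l x, u⁆ = (Nat.card Y : K) • (1 : Module.End K W) := fun u hu => by
    rw [Finset.sum_congr rfl (g := fun _ => (1 : Module.End K W)) fun x _ => by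
        rw [commutatorElement_eq_one_iff_mul_comm.2 (hcen u hu (l x)), map_one],
      Finset.sum_const, Finset.card_univ, Nat.card_eq_fintype_card, Nat.cast_smul_eq_nsmul]
  let Ψ : Module.End K W → Y → Module.End K W := fun T x =>
    (Nat.card Y : K)⁻¹ • ∑ y, R (l y) * R (l x)⁻¹ * T * R (l y)⁻¹
  have hΨE : ∀ T x, Ψ T x ∈ E := by
    intro T x a ha
    suffices h : R a * Ψ T x * R a⁻¹ = Ψ T x by
      conv_rhs => rw [← h]
      rw [mul_assoc (R a * Ψ T x), ← map_mul, inv_mul_cancel, map_one, mul_one]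
    simp only [Ψ, mul_smul_comm, smul_mul_assoc, Finset.mul_sum, Finset.sum_mul]
    congr 1
    refine Fintype.sum_equiv (Equiv.mulLeft (⟨π a, hYmem a ha⟩ : Y)) _ _ fun y => ?_
    rw [Equiv.coe_mulLeft]
    obtain ⟨z, hzdef⟩ : ∃ z, z = (l (⟨π a, hYmem a ha⟩ * y))⁻¹ * (a * l y) := ⟨_, rfl⟩
    have hz : z ∈ Zc := by rw [hzdef, ← hπeq, map_mul, hlπ, hlπ]; rfl
    have e : a * l y = l (⟨π a, hYmem a ha⟩ * y) * z := by rw [hzdef, mul_inv_cancel_left]
    calc R a * (R (l y) * R (l x)⁻¹ * T * R (l y)⁻¹) * R a⁻¹ = R (a * l y) * (R (l x)⁻¹ * T) * R (a * l y)⁻¹ := by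
          rw [mul_inv_rev, map_mul, map_mul]; simp only [mul_assoc]
      _ = R (l (⟨π a, hYmem a ha⟩ * y)) * (R z * (R (l x)⁻¹ * T) * R z⁻¹) * R (l (⟨π a, hYmem a ha⟩ * y))⁻¹ := by
          rw [e, mul_inv_rev, map_mul, map_mul]; simp only [mul_assoc]
      _ = _ := by rw [hzc z hz (R (l x)⁻¹ * T), mul_assoc _ (R z) _, hRinv, mul_one]; simp only [mul_assoc]
  have hΦΨ : ∀ T, Φ (fun x => ⟨Ψ T x, hΨE T x⟩) = T := by
    intro T
    show ∑ x, R (l x) * Ψ T x = T
    simp only [Ψ, mul_smul_comm, ← Finset.smul_sum, Finset.mul_sum]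
    rw [Finset.sum_comm, Finset.sum_congr rfl (g := fun y => (∑ x : Y, R ⁅l x, l y⁆) * (R (l y) * T * R (l y)⁻¹))
      fun y _ => ?_]
    · rw [Finset.sum_eq_single (1 : Y) (fun y _ hy => ?_) (by simp)]
      · have h1 : l 1 ∈ Zc := by rw [← hπ1, hlπ]; rfl
        rw [hsum1 _ h1, smul_one_mul, smul_smul, inv_mul_cancel₀ hQ, one_smul, hzc _ h1 T, mul_assoc, hRinv, mul_one]
      · rw [horth _ (hlN y) (fun h => hy (Subtype.ext (by rw [← hlπ y, (hπ1 _).2 h]; rfl))), zero_mul]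
    · rw [Finset.sum_mul]
      refine Finset.sum_congr rfl fun x _ => ?_
      simp only [← mul_assoc, ← map_mul]
      congr 3
      rw [commutatorElement_def]; group
  have hΨΦ : ∀ b : Y → E, ∀ x, Ψ (Φ b) x = (b x : Module.End K W) := by
    intro b x
    show (Nat.card Y : K)⁻¹ • ∑ y, R (l y) * R (l x)⁻¹ * (∑ x', R (l x') * (b x' : Module.End K W)) * R (l y)⁻¹ = _
    rw [Finset.sum_congr rfl (g := fun y => ∑ x', R ⁅l y, (l x)⁻¹ * l x'⁆ * (R ((l x)⁻¹ * l x') * (b x' : Module.End K W)))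
      fun y _ => ?_]
    · rw [Finset.sum_comm, Finset.sum_eq_single x (fun x' _ hx => ?_) (by simp)]
      · rw [← Finset.sum_mul, inv_mul_cancel, hsum1 1 (one_mem _), map_one, one_mul, smul_one_mul, smul_smul,
          inv_mul_cancel₀ hQ, one_smul]
      · rw [← Finset.sum_mul, horth _ (mul_mem (inv_mem (hlN x)) (hlN x')) (fun h => hx (Subtype.ext (by
          rw [← hlπ x', ← hlπ x]; exact ((hπeq _ _).2 h).symm))), zero_mul]
    · rw [Finset.mul_sum, Finset.sum_mul]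
      refine Finset.sum_congr rfl fun x' _ => ?_
      have hb := (b x').2 (l y)⁻¹ (inv_mem (hlN y))
      calc R (l y) * R (l x)⁻¹ * (R (l x') * (b x' : Module.End K W)) * R (l y)⁻¹
          = R (l y) * R (l x)⁻¹ * R (l x') * ((b x' : Module.End K W) * R (l y)⁻¹) := by simp only [mul_assoc]
        _ = R (l y * (l x)⁻¹ * l x' * (l y)⁻¹) * (b x' : Module.End K W) := by
          rw [← hb]; simp only [map_mul, mul_assoc]
        _ = _ := by
          rw [← mul_assoc, ← map_mul]; congr 2; rw [commutatorElement_def]; group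
  have hΦinj : Function.Injective Φ := fun b b' h => funext fun x => Subtype.ext (by rw [← hΨΦ b x, h, hΨΦ b' x])
  have hdimE : Nat.card Y * Module.finrank K E ≤ Module.finrank K W * Module.finrank K W := by
    have h := LinearMap.finrank_le_finrank_of_injective hΦinj
    rw [Module.finrank_pi_fintype, Finset.sum_const, Finset.card_univ, smul_eq_mul, Module.finrank_linearMap,
      ← Nat.card_eq_fintype_card] at h
    exact h
  -- orbits of `g`
  obtain ⟨γ, hγ⟩ : ∃ γ, γ = π g := ⟨_, rfl⟩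
  rw [← hγ] at hsmall
  have hγY : ∀ x ∈ Y, γ * x * γ⁻¹ ∈ Y := fun x hx => by
    obtain ⟨a, ha, rfl⟩ := hY ▸ hx
    rw [hγ, ← map_inv, ← map_mul, ← map_mul]
    exact hYmem _ (hN.conj_mem a ha g)
  obtain ⟨σ, hσ⟩ : ∃ σ : Equiv.Perm Y, ∀ x, (σ x).1 = γ * x.1 * γ⁻¹ :=
    ⟨Equiv.ofBijective (fun x => ⟨γ * x.1 * γ⁻¹, hγY _ x.2⟩) (Finite.injective_iff_bijective.1 fun x y h =>
      Subtype.ext (mul_left_cancel (mul_right_cancel (congrArg Subtype.val h)))), fun _ => rfl⟩
  have hσk : ∀ (k : ℕ) (x : Y), ((σ ^ k) x).1 = γ ^ k * x.1 * (γ ^ k)⁻¹ := by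
    intro k
    induction k with
    | zero => simp
    | succ k ih => intro x; rw [pow_succ', Equiv.Perm.mul_apply, hσ, ih, pow_succ']; simp [mul_assoc]
  have hσp : σ ^ p = 1 := Equiv.ext fun x => Subtype.ext (by
    rw [hσk, hγ, ← map_pow, hg, map_one]; simp)
  obtain ⟨T, hT, hTc⟩ := exists_orbit_reps_card hp σ hσp
  -- the commutant of `g`
  let F : Submodule K (Module.End K W) :=
    { carrier := {T | R g * T = T * R g}
      zero_mem' := by simp
      add_mem' := fun {S T} (hS : R g * S = S * R g) (hT : R g * T = T * R g) =>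
        show R g * (S + T) = (S + T) * R g by rw [mul_add, add_mul, hS, hT]
      smul_mem' := fun c T (hT : R g * T = T * R g) => show R g * (c • T) = (c • T) * R g by
        rw [mul_smul_comm, smul_mul_assoc, hT] }
  let Lm : F →ₗ[K] (T → E) :=
    { toFun := fun S x => ⟨Ψ S.1 x.1, hΨE _ _⟩
      map_add' := fun S S' => funext fun x => Subtype.ext (by simp [Ψ, mul_add, add_mul, Finset.sum_add_distrib])
      map_smul' := fun c S => funext fun x => Subtype.ext (by
        simp [Ψ, Finset.smul_sum, smul_smul, mul_comm]) }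
  have hLm : Function.Injective Lm := by
    rw [injective_iff_map_eq_zero]
    intro S hS
    obtain ⟨b, hb⟩ : ∃ b : Y → E, b = fun x => ⟨Ψ S.1 x, hΨE S.1 x⟩ := ⟨_, rfl⟩
    have hbS : Φ b = S.1 := hb ▸ hΦΨ S.1
    have hz : ∀ x, (l (σ x))⁻¹ * (g * l x * g⁻¹) ∈ Zc := fun x => by
      rw [← hπeq, hlπ, map_mul, map_mul, map_inv, hlπ, hσ, hγ]
    have hbg : ∀ x, R ((l (σ x))⁻¹ * (g * l x * g⁻¹)) * (R g * (b x).1 * R g⁻¹) ∈ E := fun x a ha => by
      have h1 := (b x).2 (g⁻¹ * a * g) (by simpa using hN.conj_mem a ha g⁻¹)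
      have h2 : R a * (R g * (b x).1 * R g⁻¹) = (R g * (b x).1 * R g⁻¹) * R a := by
        calc R a * (R g * (b x).1 * R g⁻¹) = R g * (R (g⁻¹ * a * g) * (b x).1) * R g⁻¹ := by
              simp only [← mul_assoc, ← map_mul]; congr 3; group
          _ = R g * ((b x).1 * R (g⁻¹ * a * g)) * R g⁻¹ := by rw [h1]
          _ = _ := by simp only [mul_assoc, ← map_mul]; congr 3; group
      obtain ⟨s, hs⟩ := hscal _ (hz x)
      rw [hs, smul_one_mul, mul_smul_comm, smul_mul_assoc, h2]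
    have hb' : b = fun y => ⟨_, hbg (σ.symm y)⟩ := hΦinj (by
      rw [hbS]
      show S.1 = ∑ y, R (l y) * _
      calc S.1 = R g * Φ b * R g⁻¹ := by rw [hbS, S.2, mul_assoc, hRinv, mul_one]
        _ = ∑ x, R (g * l x * g⁻¹) * (R g * (b x).1 * R g⁻¹) := by
          show R g * (∑ x, R (l x) * (b x).1) * R g⁻¹ = _
          rw [Finset.mul_sum, Finset.sum_mul]
          refine Finset.sum_congr rfl fun x _ => ?_
          simp only [← mul_assoc, ← map_mul]; congr 3; group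
        _ = _ := Fintype.sum_equiv σ _ _ fun x => by
          simp only [Equiv.symm_apply_apply]
          rw [← mul_assoc (R (l (σ x))) (R _), ← map_mul, mul_inv_cancel_left])
    have hstep : ∀ x, b x = 0 → b (σ x) = 0 := fun x hx => by
      refine Subtype.ext ?_
      rw [congrArg Subtype.val (congrFun hb' (σ x))]
      simp [hx]
    have hall : ∀ x, b x = 0 := by
      intro x
      obtain ⟨y, hy, k, rfl⟩ := hT x
      induction k with
      | zero =>
        have h1 : Lm S ⟨y, hy⟩ = 0 := by rw [hS]; rfl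
        rw [pow_zero, Equiv.Perm.one_apply, hb]
        exact h1
      | succ k ih => rw [pow_succ', Equiv.Perm.mul_apply]; exact hstep _ ih
    refine Subtype.ext ?_
    rw [← hbS, show b = 0 from funext hall, map_zero]
    rfl
  have hF1 : Module.finrank K F ≤ T.card * Module.finrank K E := by
    refine (LinearMap.finrank_le_finrank_of_injective hLm).trans (le_of_eq ?_)
    simp [Module.finrank_pi_fintype]
  -- a lower bound for it
  obtain ⟨D, hD⟩ : ∃ D, D = R g - 1 := ⟨_, rfl⟩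
  let ι : ((W ⧸ LinearMap.range D) →ₗ[K] fixOf R g) →ₗ[K] Module.End K W :=
    { toFun := fun f => (fixOf R g).subtype.comp (f.comp (LinearMap.range D).mkQ)
      map_add' := fun f f' => rfl
      map_smul' := fun c f => rfl }
  have hι : Function.Injective ι := fun f f' h => by
    refine Submodule.linearMap_qext _ (LinearMap.ext fun v => Subtype.ext ?_)
    exact LinearMap.congr_fun h v
  have hιF : LinearMap.range ι ≤ F := by
    rintro _ ⟨f, rfl⟩
    refine LinearMap.ext fun v => ?_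
    show R g ((f (Submodule.Quotient.mk v)) : W) = ((f (Submodule.Quotient.mk (R g v))) : W)
    rw [mem_fixOf.1 (f _).2, (Submodule.Quotient.eq _).2 (show R g v - v ∈ LinearMap.range D from ⟨v, by rw [hD]; rfl⟩)]
  have hg1 : R g ≠ 1 := by
    intro h
    have hker : Subgroup.normalClosure {g} ≤ R.ker :=
      Subgroup.normalClosure_le_normal (Set.singleton_subset_iff.2 (MonoidHom.mem_ker.2 h))
    rw [hgen, top_le_iff] at hker
    obtain ⟨w, hw⟩ := exists_ne (0 : W)
    obtain ⟨a, ha, b, hb, hab⟩ := hnab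
    refine hw ((hR q hq N hN hNq (fun h1 => ?_)).2 w fun x _ => ?_)
    · rw [h1, Subgroup.mem_bot] at ha
      exact hab (by rw [ha]; simp)
    · rw [MonoidHom.mem_ker.1 (hker ▸ Subgroup.mem_top x : x ∈ R.ker)]; rfl
  have hF2 : Module.finrank K (fixOf R g) * Module.finrank K (fixOf R g) + 1 ≤ Module.finrank K F := by
    have hlt : LinearMap.range ι < F := by
      refine lt_of_le_of_ne hιF fun h => hg1 ?_
      have h1 : (1 : Module.End K W) ∈ LinearMap.range ι := h.symm ▸ (show R g * 1 = 1 * R g by simp)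
      obtain ⟨f, hf⟩ := h1
      refine LinearMap.ext fun v => sub_eq_zero.1 ?_
      have h2 := LinearMap.congr_fun hf (D v)
      change ((f ((LinearMap.range D).mkQ (D v))) : W) = D v at h2
      rw [show (LinearMap.range D).mkQ (D v) = 0 from (Submodule.Quotient.mk_eq_zero _).2 ⟨v, rfl⟩, map_zero, ZeroMemClass.coe_zero, hD] at h2
      exact h2.symm
    have h1 := Submodule.finrank_lt_finrank_of_lt hlt
    rw [LinearMap.finrank_range_of_inj hι, Module.finrank_linearMap] at h1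
    have h2 := (LinearMap.range D).finrank_quotient_add_finrank
    have h3 := D.finrank_range_add_finrank_ker
    have h4 : Module.finrank K (LinearMap.ker D) = Module.finrank K (fixOf R g) := by rw [hD]; rfl
    have h5 : Module.finrank K (W ⧸ LinearMap.range D) = Module.finrank K (fixOf R g) := by omega
    rw [h5] at h1
    omega
  -- sizes
  obtain ⟨m, hm⟩ := IsPGroup.iff_card.1 (hY ▸ hNq.map π : IsPGroup q Y)
  let C : Subgroup Y :=
    { carrier := {x | γ * x.1 * γ⁻¹ = x.1}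
      one_mem' := by simp
      mul_mem' := fun {a b} (ha : γ * a.1 * γ⁻¹ = a.1) (hb : γ * b.1 * γ⁻¹ = b.1) => show γ * (a.1 * b.1) * γ⁻¹ = a.1 * b.1 by
        conv_rhs => rw [← ha, ← hb]
        group
      inv_mem' := fun {a} (ha : γ * a.1 * γ⁻¹ = a.1) => show γ * a.1⁻¹ * γ⁻¹ = a.1⁻¹ by
        conv_rhs => rw [← ha]
        group }
  obtain ⟨c, hc⟩ := IsPGroup.iff_card.1 ((hY ▸ hNq.map π : IsPGroup q Y).to_subgroup C)
  have hCfix : Nat.card {x : Y // σ x = x} = q ^ c := by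
    rw [← hc]
    exact Nat.card_congr (Equiv.subtypeEquivRight fun x => by rw [Subtype.ext_iff, hσ]; rfl)
  rw [show Nat.card {x : Y // γ * ↑x * γ⁻¹ = ↑x} = q ^ c from hc, hm, ← pow_mul] at hsmall
  have hcm : 2 * c < m := by have := (Nat.pow_lt_pow_iff_right hq.one_lt).1 hsmall; omega
  have hm2 : 2 ≤ m := by
    by_contra hlt
    obtain rfl : m = 1 := by omega
    obtain ⟨a, ha, b, hb, hab⟩ := hnab
    rw [pow_one] at hm
    have haZ : (⟨π a, hYmem a ha⟩ : Y) ≠ 1 := fun h => hab (hcen a ((hπ1 a).1 (congrArg Subtype.val h)) b).symm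
    obtain ⟨k, hk⟩ := (mem_powers_iff_mem_zpowers.2 (mem_zpowers_of_prime_card hm haZ (g' := ⟨π b, hYmem b hb⟩)))
    have hk' : π (a ^ k) = π b := by rw [map_pow]; exact congrArg Subtype.val hk
    have hz := (hπeq _ _).1 hk'
    apply hab
    have e : b = a ^ k * ((a ^ k)⁻¹ * b) := by rw [mul_inv_cancel_left]
    rw [e]
    exact ((Commute.self_pow a k).mul_right (hcen _ hz a)).eq
  rw [hCfix, hm] at hTc
  have hineq := four_mul_le hp5 hp hq hm2 hcm ⟨T.card, by rw [← hTc]⟩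
  rw [← hTc] at hineq
  have h4 : 4 * T.card ≤ q ^ m := by
    refine Nat.le_of_mul_le_mul_left ?_ hp.pos
    rw [← mul_assoc, mul_comm p 4, mul_assoc]; exact hineq
  rw [hm] at hdimE
  by_contra hge
  rw [not_lt] at hge
  obtain ⟨w, hw⟩ : ∃ w, w = Module.finrank K (fixOf R g) := ⟨_, rfl⟩
  obtain ⟨n, hn⟩ : ∃ n, n = Module.finrank K W := ⟨_, rfl⟩
  obtain ⟨e, he⟩ : ∃ e, e = Module.finrank K E := ⟨_, rfl⟩
  obtain ⟨Q, hQ'⟩ : ∃ Q, Q = q ^ m := ⟨_, rfl⟩
  rw [← hw, ← hn] at hge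
  rw [← hw] at hF2
  rw [← hn] at hdimE
  rw [← he] at hdimE hF1
  rw [← hQ'] at hdimE h4
  have h5 := hF2.trans hF1
  have h6 : n * n ≤ (2 * w) * (2 * w) := Nat.mul_le_mul hge hge
  nlinarith [Nat.mul_le_mul_right e h4]

end Cfsg.Lib.Solv.FixedHalf
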