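import Cfsg.Agent.Lib.Solv.FixedHalf.Count
import Cfsg.Agent.Lib.Local.MovedBound

/-!
Weight spaces of a normal abelian `q`-subgroup in a representation without trivial constituents for normal
`q`-subgroups, and the bound on the fixed space of an element of prime order whose conjugates generate.
-/

set_option autoImplicit false
set_option linter.style.haveILetI false

namespace Cfsg.Lib.Solv.FixedHalf

open scoped commutatorElement

variable {G : Type*} [Group G] {K : Type*} [Field K] {W : Type*} [AddCommGroup W] [Module K W]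

/-- Normal subgroups of prime power order have invertible order and fix only zero. -/
def FPF (R : G →* Module.End K W) : Prop :=
  ∀ q : ℕ, q.Prime → ∀ N : Subgroup G, N.Normal → IsPGroup q N → N ≠ ⊥ →
    (q : K) ≠ 0 ∧ ∀ w : W, (∀ x ∈ N, R x w = w) → w = 0

/-- The fixed space of an element. -/
def fixOf (R : G →* Module.End K W) (g : G) : Submodule K W := LinearMap.ker (R g - 1)

theorem mem_fixOf {R : G →* Module.End K W} {g : G} {v : W} : v ∈ fixOf R g ↔ R g v = v := by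
  simp [fixOf, sub_eq_zero]

theorem rep_mul (R : G →* Module.End K W) (a b : G) (v : W) : R (a * b) v = R a (R b v) := by
  rw [map_mul]; rfl

theorem rep_inj (R : G →* Module.End K W) (a : G) : Function.Injective (R a) := fun v w h => by
  have := congrArg (R a⁻¹) h
  rwa [← rep_mul, ← rep_mul, inv_mul_cancel, map_one] at this

/-- Weight spaces of a subgroup. -/
def wt (R : G →* Module.End K W) (A : Subgroup G) (φ : A → K) : Submodule K W :=
  ⨅ a : A, LinearMap.ker (R (a : G) - φ a • (1 : Module.End K W))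

theorem mem_wt {R : G →* Module.End K W} {A : Subgroup G} {φ : A → K} {v : W} :
    v ∈ wt R A φ ↔ ∀ a : A, R (a : G) v = φ a • v := by
  simp [wt, Submodule.mem_iInf, sub_eq_zero]

/-- The twist of a weight by an element normalizing the subgroup. -/
def twist {A : Subgroup G} [hA : A.Normal] (x : G) (φ : A → K) : A → K :=
  fun a => φ ⟨x⁻¹ * (a : G) * x, by simpa using hA.conj_mem _ a.2 x⁻¹⟩

theorem twist_mem {R : G →* Module.End K W} {A : Subgroup G} [hA : A.Normal] (x : G) {φ : A → K} {v : W}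
    (hv : v ∈ wt R A φ) : R x v ∈ wt R A (twist x φ) := by
  rw [mem_wt] at hv ⊢
  intro a
  rw [← rep_mul, show (a : G) * x = x * (x⁻¹ * (a : G) * x) by group, rep_mul]
  rw [show R (x⁻¹ * (a : G) * x) v = twist x φ a • v from hv ⟨_, by simpa using hA.conj_mem _ a.2 x⁻¹⟩, map_smul]

theorem wt_twist_ne {R : G →* Module.End K W} {A : Subgroup G} [hA : A.Normal] (x : G) {φ : A → K}
    (h : wt R A φ ≠ ⊥) : wt R A (twist x φ) ≠ ⊥ := by
  obtain ⟨v, hv, hv0⟩ := Submodule.exists_mem_ne_zero_of_ne_bot h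
  exact fun e => hv0 (rep_inj R x (by rw [map_zero]; exact (Submodule.eq_bot_iff _).1 e _ (twist_mem x hv)))

/-- The restriction to an invariant subspace. -/
def restrictRep (R : G →* Module.End K W) (U : Submodule K W) (hU : ∀ x, ∀ v ∈ U, R x v ∈ U) :
    G →* Module.End K U where
  toFun x := (R x).restrict (hU x)
  map_one' := LinearMap.ext fun v => Subtype.ext (by simp [LinearMap.restrict_apply])
  map_mul' x y := LinearMap.ext fun v => Subtype.ext (by simp [LinearMap.restrict_apply])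

theorem restrictRep_fpf {R : G →* Module.End K W} (hR : FPF R) (U : Submodule K W)
    (hU : ∀ x, ∀ v ∈ U, R x v ∈ U) : FPF (restrictRep R U hU) := fun q hq N hN hNp hN1 =>
  ⟨(hR q hq N hN hNp hN1).1, fun w hw =>
    Subtype.ext ((hR q hq N hN hNp hN1).2 _ fun x hx => congrArg Subtype.val (hw x hx))⟩

theorem sum_single {ι : Type*} [Fintype ι] [DecidableEq ι] (U : ι → Submodule K W) (i : ι) (x : U i) :
    ∑ j, ((Pi.single i x : ∀ j, U j) j : W) = x := by
  rw [Finset.sum_eq_single i (fun j _ hj => by rw [Pi.single_eq_of_ne hj]; rfl) (by simp), Pi.single_eq_same]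

variable [Finite G] [IsAlgClosed K] [FiniteDimensional K W]

/-- Weight decomposition for a normal abelian subgroup of invertible order. -/
theorem exists_weights (R : G →* Module.End K W) (A : Subgroup G) (hcA : ∀ a ∈ A, ∀ b ∈ A, a * b = b * a)
    (hcard : (Nat.card A : K) ≠ 0) :
    {φ : A → K | wt R A φ ≠ ⊥}.Finite ∧
      ∀ (Ω : Finset (A → K)), (∀ φ, φ ∈ Ω ↔ wt R A φ ≠ ⊥) →
        ∃ e : (∀ φ : Ω, wt R A φ.1) ≃ₗ[K] W, ∀ u, e u = ∑ φ, (u φ : W) := by
  classical
  have hsz : ∀ (s : Finset (A → K)) (w : (A → K) → W), (∀ φ ∈ s, w φ ∈ wt R A φ) → ∑ φ ∈ s, w φ = 0 →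
      ∀ φ ∈ s, w φ = 0 := by
    intro s w hw hsum φ₀ hφ₀
    refine Cfsg.Lib.Local.eigen_sum_eq_zero (ρ := R) (A := A) hcard s
      (fun φ h => if hh : h ∈ A then φ ⟨h, hh⟩ else 0) w (fun φ hφ => ?_) hφ₀ (fun φ _ hne => ?_) hsum
    · rw [Cfsg.Lib.Local.mem_eigenOf]
      intro a ha
      rw [dif_pos ha]
      exact mem_wt.1 (hw φ hφ) ⟨a, ha⟩
    · obtain ⟨a, ha⟩ := Function.ne_iff.1 hne
      exact ⟨a.1, a.2, by simpa [dif_pos a.2] using ha⟩
  have hind : iSupIndep fun φ : A → K => wt R A φ := by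
    rw [iSupIndep_iff_finset_sum_eq_zero_imp_eq_zero]
    exact fun s v hv => hsz s v hv
  refine ⟨WellFoundedGT.finite_ne_bot_of_iSupIndep hind, fun Ω hΩ => ?_⟩
  let f : (∀ φ : Ω, wt R A φ.1) →ₗ[K] W :=
    { toFun := fun u => ∑ φ, (u φ : W)
      map_add' := fun u v => by simp [Finset.sum_add_distrib]
      map_smul' := fun c u => by simp [Finset.smul_sum] }
  have hinj : Function.Injective f := by
    rw [injective_iff_map_eq_zero]
    intro u hu
    funext φ
    refine Subtype.ext ?_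
    have h := hsz Ω (fun ψ => if h : ψ ∈ Ω then (u ⟨ψ, h⟩ : W) else 0)
      (fun ψ hψ => by rw [dif_pos hψ]; exact (u ⟨ψ, hψ⟩).2) (by
        rw [← Finset.sum_coe_sort]
        refine Eq.trans (Finset.sum_congr rfl fun ψ _ => ?_) hu
        simp) φ.1 φ.2
    simpa using h
  refine ⟨LinearEquiv.ofBijective f ⟨hinj, ?_⟩, fun u => rfl⟩
  by_contra hns
  have hne : LinearMap.range f ≠ ⊤ := fun h => hns (LinearMap.range_eq_top.1 h)
  obtain ⟨U, hU⟩ : ∃ U, U = LinearMap.range f := ⟨_, rfl⟩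
  have hUinv : ∀ a ∈ A, ∀ v ∈ U, R a v ∈ U := by
    intro a ha v hv
    rw [hU] at hv ⊢
    obtain ⟨u, rfl⟩ := hv
    refine ⟨fun φ => φ.1 ⟨a, ha⟩ • u φ, ?_⟩
    show ∑ φ, ((φ.1 ⟨a, ha⟩ • u φ : wt R A φ.1) : W) = R a (∑ φ, (u φ : W))
    rw [map_sum]
    exact Finset.sum_congr rfl fun φ _ => (mem_wt.1 (u φ).2 ⟨a, ha⟩).symm
  obtain ⟨U', hUU'⟩ := U.exists_isCompl
  let P0 : Module.End K W := U.subtype.comp (Submodule.linearProjOfIsCompl U U' hUU')
  haveI := Fintype.ofFinite A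
  let P : Module.End K W := (Nat.card A : K)⁻¹ • ∑ a : A, R (a : G) * P0 * R ((a⁻¹ : A) : G)
  have hPU : ∀ v, P v ∈ U := fun v => by
    simp only [P, LinearMap.smul_apply, LinearMap.sum_apply, Module.End.mul_apply]
    exact Submodule.smul_mem _ _ (Submodule.sum_mem _ fun a _ => hUinv _ a.2 _ (Subtype.coe_prop _))
  have hPid : ∀ v ∈ U, P v = v := fun v hv => by
    simp only [P, LinearMap.smul_apply, LinearMap.sum_apply, Module.End.mul_apply]
    rw [Finset.sum_congr rfl (g := fun _ => v) fun a _ => ?_, Finset.sum_const, Finset.card_univ,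
      ← Nat.card_eq_fintype_card, ← Nat.cast_smul_eq_nsmul K, smul_smul, inv_mul_cancel₀ hcard, one_smul]
    have hm := hUinv _ (a⁻¹ : A).2 v hv
    have h1 : P0 (R ((a⁻¹ : A) : G) v) = R ((a⁻¹ : A) : G) v := by
      exact congrArg Subtype.val (Submodule.linearProjOfIsCompl_apply_left hUU' ⟨_, hm⟩)
    rw [h1, ← rep_mul]
    simp
  have hPc : ∀ b : A, ∀ v, R (b : G) (P v) = P (R (b : G) v) := fun b v => by
    simp only [P, LinearMap.smul_apply, LinearMap.sum_apply, Module.End.mul_apply, map_smul, map_sum]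
    congr 1
    refine Fintype.sum_equiv (Equiv.mulLeft b) _ _ fun a => ?_
    simp only [Equiv.coe_mulLeft, ← rep_mul, Subgroup.coe_mul, Subgroup.coe_inv, mul_inv_rev]
    congr 3
    simp
  have hker : LinearMap.ker P ≠ ⊥ := by
    intro hk
    refine hne (Submodule.eq_top_iff'.2 fun v => ?_)
    have h1 : v - P v ∈ LinearMap.ker P := by rw [LinearMap.mem_ker, map_sub, hPid _ (hPU v), sub_self]
    rw [hk, Submodule.mem_bot, sub_eq_zero] at h1
    rw [← hU, h1]
    exact hPU v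
  obtain ⟨ψ, v, hv, hv0, hvψ⟩ := Cfsg.Lib.Local.exists_common_eigenvector R A hcA _ hker fun a ha u hu => by
    rw [LinearMap.mem_ker] at hu ⊢
    rw [← hPc ⟨a, ha⟩, hu, map_zero]
  rw [Cfsg.Lib.Local.mem_eigenOf] at hvψ
  have hm : v ∈ wt R A fun a => ψ a.1 := mem_wt.2 fun a => hvψ a.1 a.2
  have hmem : (fun a : A => ψ a.1) ∈ Ω := (hΩ _).2 fun h => hv0 ((Submodule.eq_bot_iff _).1 h _ hm)
  have h1 : v ∈ U := by
    rw [hU]
    refine ⟨Pi.single ⟨_, hmem⟩ ⟨v, hm⟩, ?_⟩
    exact sum_single (fun φ : Ω => wt R A φ.1) ⟨_, hmem⟩ ⟨v, hm⟩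
  exact hv0 (by rw [← hPid v h1]; exact LinearMap.mem_ker.1 hv)

/-- An element moving a normal abelian `q`-subgroup, with generating conjugates, fixes a small subspace. -/
theorem bound_of_moved [Group.IsSolvable G] {p : ℕ} (hp : p.Prime) {g : G} (hg : g ^ p = 1)
    (hgen : Subgroup.normalClosure {g} = ⊤) (R : G →* Module.End K W) (hR : FPF R)
    {q : ℕ} (hq : q.Prime) (A : Subgroup G) [hA : A.Normal] (hAq : IsPGroup q A)
    (hcA : ∀ a ∈ A, ∀ b ∈ A, a * b = b * a) (hnc : ¬ A ≤ Subgroup.center G) :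
    p * p * Module.finrank K (fixOf R g) ≤ (2 * p - 1) * Module.finrank K W := by
  classical
  have hA1 : A ≠ ⊥ := fun h => hnc (h ▸ bot_le)
  haveI : Fact q.Prime := ⟨hq⟩
  obtain ⟨hfin, hdec⟩ := exists_weights R A hcA
    (Cfsg.Lib.Local.natCard_cast_ne_zero (hR q hq A hA hAq hA1).1 hAq)
  obtain ⟨Ω, hΩ'⟩ : ∃ Ω : Finset (A → K), Ω = hfin.toFinset := ⟨_, rfl⟩
  have hΩ : ∀ φ, φ ∈ Ω ↔ wt R A φ ≠ ⊥ := fun φ => by rw [hΩ', Set.Finite.mem_toFinset]; rfl
  obtain ⟨e, he⟩ := hdec Ω hΩ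
  letI : MulAction G Ω :=
    { smul := fun x φ => ⟨twist x φ.1, (hΩ _).2 (wt_twist_ne x ((hΩ _).1 φ.2))⟩
      one_smul := fun φ => Subtype.ext (funext fun a => congrArg φ.1 (Subtype.ext (by simp)))
      mul_smul := fun x y φ => Subtype.ext (funext fun a => congrArg φ.1 (Subtype.ext (by simp [mul_assoc]))) }
  -- no weight is fixed by the whole group
  have hnofix : ∀ φ : Ω, MulAction.stabilizer G φ ≠ ⊤ := by
    intro φ htop
    obtain ⟨v, hv, hv0⟩ := Submodule.exists_mem_ne_zero_of_ne_bot ((hΩ _).1 φ.2)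
    have hv' := hv
    rw [mem_wt] at hv
    have hle : ⁅(⊤ : Subgroup G), A⁆ ≤ A := Subgroup.commutator_le_right ⊤ A
    refine hv0 ((hR q hq ⁅(⊤ : Subgroup G), A⁆ inferInstance (hAq.to_le hle) (fun h => hnc fun a ha =>
      Subgroup.mem_center_iff.2 fun x => commutatorElement_eq_one_iff_mul_comm.1
        ((Subgroup.eq_bot_iff_forall _).1 h _ (Subgroup.commutator_mem_commutator (Subgroup.mem_top x) ha)))).2 v ?_)
    let S : Subgroup G :=
      { carrier := {y | R y v = v}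
        one_mem' := by simp
        mul_mem' := fun {a b} (ha : R a v = v) (hb : R b v = v) => show R (a * b) v = v by rw [rep_mul, hb, ha]
        inv_mem' := fun {a} (ha : R a v = v) => show R a⁻¹ v = v from rep_inj R a (by
          rw [← rep_mul, mul_inv_cancel, map_one, ha]; rfl) }
    suffices hS : ⁅(⊤ : Subgroup G), A⁆ ≤ S from fun x hx => hS hx
    rw [Subgroup.commutator_le]
    intro x _ a ha
    have e1 : φ.1 ⟨x⁻¹⁻¹ * a * x⁻¹, by simpa using hA.conj_mem _ ha x⟩ = φ.1 ⟨a, ha⟩ := by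
      have h1 : (x⁻¹ : G) • φ = φ := MulAction.mem_stabilizer_iff.1 (htop ▸ Subgroup.mem_top _)
      exact congrFun (congrArg Subtype.val h1) ⟨a, ha⟩
    show R ⁅x, a⁆ v = v
    rw [show ⁅x, a⁆ = (x⁻¹⁻¹ * a * x⁻¹) * a⁻¹ by rw [commutatorElement_def]; group, rep_mul,
      hv ⟨a⁻¹, inv_mem ha⟩, map_smul, hv ⟨x⁻¹⁻¹ * a * x⁻¹, by simpa using hA.conj_mem _ ha x⟩, e1, smul_smul]
    have h2 : R a⁻¹ (R a v) = v := by rw [← rep_mul, inv_mul_cancel, map_one]; rfl
    rw [hv ⟨a, ha⟩, map_smul, hv ⟨a⁻¹, inv_mem ha⟩, smul_smul, mul_comm] at h2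
    exact h2
  obtain ⟨d, hd⟩ : ∃ d : Ω → ℕ, ∀ φ, d φ = Module.finrank K (wt R A φ.1) := ⟨_, fun _ => rfl⟩
  have hdle : ∀ (x : G) (φ : Ω), d φ ≤ d (x • φ) := fun x φ => by
    rw [hd, hd]
    exact LinearMap.finrank_le_finrank_of_injective (f := (R x).restrict fun v (hv : v ∈ wt R A φ.1) => twist_mem x hv)
      fun a b h => Subtype.ext (rep_inj R x (congrArg Subtype.val h))
  have hdeq : ∀ (x : G) (φ : Ω), d (x • φ) = d φ := fun x φ =>
    le_antisymm ((hdle x⁻¹ _).trans (by rw [inv_smul_smul])) (hdle x φ)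
  have hn : Module.finrank K W = ∑ φ, d φ := by
    rw [← e.finrank_eq, Module.finrank_pi_fintype]
    simp [hd]
  have hσ : (MulAction.toPerm g : Equiv.Perm Ω) ^ p = 1 := by
    rw [show (MulAction.toPerm g : Equiv.Perm Ω) = MulAction.toPermHom G Ω g from rfl, ← map_pow, hg, map_one]
  obtain ⟨T, hT, hTc⟩ := exists_orbit_reps hp (MulAction.toPerm g : Equiv.Perm Ω) hσ d (fun φ => hdeq g φ)
  -- fixed vectors are determined by the components on representatives
  have hw : Module.finrank K (fixOf R g) ≤ ∑ φ ∈ T, d φ := by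
    let L : fixOf R g →ₗ[K] ∀ φ : T, wt R A φ.1.1 :=
      LinearMap.pi fun φ => (LinearMap.proj φ.1).comp (e.symm.toLinearMap.comp (fixOf R g).subtype)
    have hL : Function.Injective L := by
      rw [injective_iff_map_eq_zero]
      intro v hv
      obtain ⟨u, hu⟩ : ∃ u, u = e.symm v.1 := ⟨_, rfl⟩
      have heu : e u = v.1 := by rw [hu, e.apply_symm_apply]
      have hgmem : ∀ φ : Ω, R g ((u (g⁻¹ • φ)) : W) ∈ wt R A φ.1 := fun φ => by
        have h1 := twist_mem g (u (g⁻¹ • φ)).2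
        rwa [show twist g (g⁻¹ • φ).1 = φ.1 from congrArg Subtype.val (smul_inv_smul g φ)] at h1
      have hu' : u = fun φ : Ω => (⟨_, hgmem φ⟩ : wt R A φ.1) := e.injective (by
        rw [heu, he]
        show v.1 = ∑ φ : Ω, R g ((u (g⁻¹ • φ)) : W)
        rw [← map_sum, Fintype.sum_equiv (MulAction.toPerm g⁻¹) (fun φ : Ω => ((u (g⁻¹ • φ)) : W))
          (fun φ => ((u φ) : W)) (fun φ => rfl), ← he, heu, mem_fixOf.1 v.2])
      have hstep : ∀ φ : Ω, u φ = 0 → u (g • φ) = 0 := by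
        intro φ h0
        have h1 : ((u (g • φ)) : W) = R g ((u (g⁻¹ • (g • φ))) : W) := congrArg Subtype.val (congrFun hu' (g • φ))
        rw [inv_smul_smul, h0, ZeroMemClass.coe_zero, map_zero] at h1
        exact Subtype.ext h1
      have hall : ∀ φ : Ω, u φ = 0 := by
        intro φ
        obtain ⟨ψ, hψ, k, rfl⟩ := hT φ
        induction k with
        | zero =>
          have h1 : L v ⟨ψ, hψ⟩ = 0 := by rw [hv]; rfl
          rw [pow_zero, Equiv.Perm.one_apply, hu]
          exact h1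
        | succ k ih => rw [pow_succ', Equiv.Perm.mul_apply, MulAction.toPerm_apply]; exact hstep _ ih
      refine Subtype.ext ?_
      rw [← e.apply_symm_apply v.1, ← hu, he]
      simp [hall]
    refine (LinearMap.finrank_le_finrank_of_injective hL).trans (le_of_eq ?_)
    rw [Module.finrank_pi_fintype, ← Finset.sum_coe_sort T]
    simp [hd]
  -- the fixed weights are few
  have hfix : p * ∑ φ ∈ Finset.univ.filter (fun φ : Ω => g • φ = φ), d φ ≤ ∑ φ, d φ := by
    rw [Finset.sum_filter, ← Finset.sum_fiberwise Finset.univ (fun φ : Ω => (Quotient.mk'' φ : MulAction.orbitRel.Quotient G Ω)),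
      ← Finset.sum_fiberwise Finset.univ (fun φ : Ω => (Quotient.mk'' φ : MulAction.orbitRel.Quotient G Ω)) d, Finset.mul_sum]
    refine Finset.sum_le_sum fun o _ => ?_
    obtain ⟨φ₀, rfl⟩ := Quotient.exists_rep o
    have hmem : ∀ φ : Ω, (Quotient.mk'' φ : MulAction.orbitRel.Quotient G Ω) = Quotient.mk'' φ₀ ↔ φ ∈ MulAction.orbit G φ₀ :=
      fun φ => by rw [Quotient.eq'', MulAction.orbitRel_apply]
    have hdc : ∀ φ ∈ MulAction.orbit G φ₀, d φ = d φ₀ := by rintro _ ⟨x, rfl⟩; exact hdeq x φ₀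
    obtain ⟨F, hF⟩ : ∃ F, F = Finset.univ.filter (fun φ : Ω => (Quotient.mk'' φ : MulAction.orbitRel.Quotient G Ω) = Quotient.mk'' φ₀) :=
      ⟨_, rfl⟩
    have hFm : ∀ φ ∈ F, φ ∈ MulAction.orbit G φ₀ := fun φ hφ => (hmem φ).1 (by rw [hF, Finset.mem_filter] at hφ; exact hφ.2)
    rw [show Quotient.mk _ φ₀ = (Quotient.mk'' φ₀ : MulAction.orbitRel.Quotient G Ω) from rfl, ← hF, ← Finset.sum_filter,
      Finset.sum_eq_card_nsmul (fun φ hφ => hdc φ (hFm φ (Finset.mem_filter.1 hφ).1)),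
      Finset.sum_eq_card_nsmul (fun φ hφ => hdc φ (hFm φ hφ)), smul_eq_mul, smul_eq_mul, ← mul_assoc]
    refine Nat.mul_le_mul_right _ ?_
    have h := card_fixed_mul_le hp hg hgen (hnofix φ₀)
    have hb : ∀ x : G ⧸ MulAction.stabilizer G φ₀, MulAction.ofQuotientStabilizer G φ₀ x ∈ MulAction.orbit G φ₀ :=
      MulAction.ofQuotientStabilizer_mem_orbit G φ₀
    have c1 : (MulAction.stabilizer G φ₀).index = F.card := by
      rw [MulAction.index_stabilizer, Set.ncard_eq_toFinset_card']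
      congr 1
      ext φ
      rw [Set.mem_toFinset, hF, Finset.mem_filter, hmem]
      simp
    refine le_trans (Nat.mul_le_mul_left p ?_) (c1 ▸ h)
    rw [← Fintype.card_coe, ← Nat.card_eq_fintype_card]
    have hsurj : Function.Surjective fun x : {x : G ⧸ MulAction.stabilizer G φ₀ // g • x = x} =>
        (⟨MulAction.ofQuotientStabilizer G φ₀ x.1, by
          rw [Finset.mem_filter]
          refine ⟨?_, by rw [← MulAction.ofQuotientStabilizer_smul, x.2]⟩
          rw [hF, Finset.mem_filter]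
          exact ⟨Finset.mem_univ _, (hmem _).2 (hb _)⟩⟩ : ↥(F.filter fun φ : Ω => g • φ = φ)) := by
      rintro ⟨φ, hφ⟩
      rw [Finset.mem_filter] at hφ
      obtain ⟨x, rfl⟩ := hFm φ hφ.1
      refine ⟨⟨(x : G ⧸ MulAction.stabilizer G φ₀), MulAction.injective_ofQuotientStabilizer G φ₀ ?_⟩, Subtype.ext rfl⟩
      rw [MulAction.ofQuotientStabilizer_smul]
      exact hφ.2
    exact Nat.card_le_card_of_surjective _ hsurj
  simp only [MulAction.toPerm_apply] at hTc
  rw [hn]
  calc p * p * Module.finrank K (fixOf R g) ≤ p * (p * ∑ φ ∈ T, d φ) := by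
        rw [mul_assoc]; exact Nat.mul_le_mul_left p (Nat.mul_le_mul_left p hw)
    _ = p * ∑ φ, d φ + (p - 1) * (p * ∑ φ ∈ Finset.univ.filter (fun φ : Ω => g • φ = φ), d φ) := by rw [hTc]; ring
    _ ≤ p * ∑ φ, d φ + (p - 1) * ∑ φ, d φ := Nat.add_le_add_left (Nat.mul_le_mul_left _ hfix) _
    _ = (2 * p - 1) * ∑ φ, d φ := by rw [← add_mul]; congr 1; have := hp.one_lt; omega

/-- If a central subgroup is scalar on each constituent, strict half bounds add up. -/
theorem bound_of_central {g : G} (R : G →* Module.End K W) [Nontrivial W] (A : Subgroup G) (hAz : A ≤ Subgroup.center G)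
    (hcard : (Nat.card A : K) ≠ 0)
    (h : ∀ (U : Submodule K W) (hU : ∀ x, ∀ v ∈ U, R x v ∈ U), U ≠ ⊥ →
      (∀ a ∈ A, ∃ s : K, restrictRep R U hU a = s • (1 : Module.End K U)) →
      2 * Module.finrank K (fixOf (restrictRep R U hU) g) < Module.finrank K U) :
    2 * Module.finrank K (fixOf R g) < Module.finrank K W := by
  classical
  have hcA : ∀ a ∈ A, ∀ b ∈ A, a * b = b * a := fun a ha b _ => (Subgroup.mem_center_iff.1 (hAz ha) b).symm
  obtain ⟨hfin, hdec⟩ := exists_weights R A hcA hcard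
  obtain ⟨Ω, hΩ'⟩ : ∃ Ω : Finset (A → K), Ω = hfin.toFinset := ⟨_, rfl⟩
  have hΩ : ∀ φ, φ ∈ Ω ↔ wt R A φ ≠ ⊥ := fun φ => by rw [hΩ', Set.Finite.mem_toFinset]; rfl
  obtain ⟨e, he⟩ := hdec Ω hΩ
  have hU : ∀ φ : A → K, ∀ x, ∀ v ∈ wt R A φ, R x v ∈ wt R A φ := fun φ x v hv => mem_wt.2 fun a => by
    rw [← rep_mul, (Subgroup.mem_center_iff.1 (hAz a.2) x).symm, rep_mul, mem_wt.1 hv a, map_smul]
  let L : fixOf R g →ₗ[K] ∀ φ : Ω, fixOf (restrictRep R (wt R A φ.1) (hU φ.1)) g :=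
    LinearMap.pi fun φ => LinearMap.codRestrict _ ((LinearMap.proj φ).comp (e.symm.toLinearMap.comp (fixOf R g).subtype)) fun v => by
      rw [mem_fixOf]
      have h1 : e (fun ψ => restrictRep R (wt R A ψ.1) (hU ψ.1) g (e.symm v.1 ψ)) = e (e.symm v.1) := by
        rw [he]
        show ∑ ψ : Ω, R g ((e.symm v.1 ψ) : W) = e (e.symm v.1)
        rw [← map_sum, ← he, e.apply_symm_apply, mem_fixOf.1 v.2]
      exact congrFun (e.injective h1) φ
  have hL : Function.Injective L := by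
    rw [injective_iff_map_eq_zero]
    intro v hv
    refine Subtype.ext ((map_eq_zero_iff _ e.symm.injective).1 ?_)
    funext φ
    have := congrArg Subtype.val (congrFun hv φ)
    simpa [L] using this
  have h1 := LinearMap.finrank_le_finrank_of_injective hL
  rw [Module.finrank_pi_fintype] at h1
  have hn : Module.finrank K W = ∑ φ : Ω, Module.finrank K (wt R A φ.1) := by
    rw [← e.finrank_eq, Module.finrank_pi_fintype]
  haveI : Nonempty Ω := by
    by_contra hne
    haveI : IsEmpty Ω := not_nonempty_iff.1 hne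
    exact (Module.finrank_pos (R := K) (M := W)).ne' (by rw [hn]; simp)
  rw [hn]
  refine lt_of_le_of_lt (Nat.mul_le_mul_left 2 h1) ?_
  rw [Finset.mul_sum]
  refine Finset.sum_lt_sum_of_nonempty Finset.univ_nonempty fun φ _ => h _ (hU φ.1) ((hΩ _).1 φ.2) fun a ha => ?_
  exact ⟨φ.1 ⟨a, ha⟩, LinearMap.ext fun v => Subtype.ext (mem_wt.1 v.2 ⟨a, ha⟩)⟩

end Cfsg.Lib.Solv.FixedHalf
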